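/-
No simple group has all involution centralisers of type two times alternating of degree four.
-/
import Cfsg.Agent.Lib.SmallOrders.RangeLow
import Cfsg.Agent.Lib.SmallOrders.OrdersBelow6233

set_option autoImplicit false
set_option linter.unusedSectionVars false
set_option maxHeartbeats 800000

namespace CfsgLib.InvTimesAlt

open Subgroup

universe u
variable {G : Type u} [Group G] [Finite G]

theorem involution_iff {x : G} : orderOf x = 2 ↔ x * x = 1 ∧ x ≠ 1 := by
  haveI : Fact (Nat.Prime 2) := ⟨Nat.prime_two⟩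
  rw [← pow_two]
  exact orderOf_eq_prime_iff

/-- An odd order group with an involutory action: fixed cosets correspond to inverted elements. -/
theorem card_fixed_mul_inverted (A : Subgroup G) (hA : Odd (Nat.card A)) {y : G} (hy : y * y = 1)
    (hn : ∀ a ∈ A, y * a * y ∈ A) :
    Nat.card (A ⊓ centralizer ({y} : Set G) : Subgroup G) * Nat.card {a : G // a ∈ A ∧ y * a * y = a⁻¹} =
      Nat.card A := by
  classical
  have yc : ∀ z w : G, y * (z * w) * y = (y * z * y) * (y * w * y) := fun z w => by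
    calc y * (z * w) * y = y * z * (y * y) * w * y := by rw [hy]; group
      _ = _ := by group
  have yy : ∀ z : G, y * (y * z * y) * y = z := fun z => by
    calc y * (y * z * y) * y = (y * y) * z * (y * y) := by group
      _ = z := by rw [hy]; group
  have yi : ∀ z : G, y * z⁻¹ * y = (y * z * y)⁻¹ := fun z => by
    rw [mul_inv_rev, mul_inv_rev, inv_eq_of_mul_eq_one_right hy, mul_assoc]
  let K : Subgroup A := (centralizer ({y} : Set G)).subgroupOf A
  have hK : Nat.card K = Nat.card (A ⊓ centralizer ({y} : Set G) : Subgroup G) := by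
    show Nat.card ((centralizer ({y} : Set G)).subgroupOf A) = _
    rw [← inf_subgroupOf_left, Nat.card_congr (subgroupOfEquivOfLe inf_le_left).toEquiv]
  let f : A → {a : G // a ∈ A ∧ y * a * y = a⁻¹} := fun a =>
    ⟨(a : G) * (y * (a : G)⁻¹ * y), mul_mem a.2 (hn _ (inv_mem a.2)), by
      rw [yc, yy, yi, mul_inv_rev, inv_inv]⟩
  have hfc : ∀ a b : A, f a = f b ↔ QuotientGroup.leftRel K a b := by
    intro a b
    rw [QuotientGroup.leftRel_apply, mem_subgroupOf, mem_centralizer_singleton_iff, Subgroup.coe_mul, Subgroup.coe_inv,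
      Subtype.ext_iff]
    show (a : G) * (y * (a : G)⁻¹ * y) = b * (y * (b : G)⁻¹ * y) ↔ _
    constructor
    · intro h
      have h' : (a : G) * y * (a : G)⁻¹ = b * y * (b : G)⁻¹ :=
        mul_right_cancel (b := y) (by simpa only [mul_assoc] using h)
      calc (a : G)⁻¹ * b * y = (a : G)⁻¹ * (b * y * (b : G)⁻¹) * b := by group
        _ = (a : G)⁻¹ * (a * y * (a : G)⁻¹) * b := by rw [h']
        _ = _ := by group
    · intro h
      calc (a : G) * (y * (a : G)⁻¹ * y) = a * (y * ((a : G)⁻¹ * b)) * (b : G)⁻¹ * y := by group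
        _ = a * ((a : G)⁻¹ * b * y) * (b : G)⁻¹ * y := by rw [h]
        _ = _ := by group
  let e : A ⧸ K → {a : G // a ∈ A ∧ y * a * y = a⁻¹} := Quotient.lift f fun a b h => (hfc a b).mpr h
  have hbij : Function.Bijective e := by
    refine ⟨fun p q => Quotient.inductionOn₂ p q fun a b h => Quotient.sound ((hfc a b).mp h), ?_⟩
    rintro ⟨z, hz, hzi⟩
    obtain ⟨j, hj⟩ := hA
    refine ⟨QuotientGroup.mk ⟨z ^ (j + 1), pow_mem hz _⟩, Subtype.ext ?_⟩
    show z ^ (j + 1) * (y * (z ^ (j + 1))⁻¹ * y) = z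
    have hpow : y * z ^ (j + 1) * y = (z ^ (j + 1))⁻¹ := by
      induction j + 1 with
      | zero => rw [pow_zero, mul_one, hy, inv_one]
      | succ m ih => rw [pow_succ, yc, ih, hzi, ← mul_inv_rev, ← pow_succ', pow_succ]
    rw [yi, hpow, inv_inv, ← pow_add, show j + 1 + (j + 1) = Nat.card A + 1 by omega, pow_succ,
      show z ^ Nat.card A = 1 from congrArg Subtype.val (pow_card_eq_one' (x := (⟨z, hz⟩ : A))), one_mul]
  rw [← Nat.card_eq_of_bijective e hbij, ← hK, ← Subgroup.index_eq_card, Subgroup.card_mul_index]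

section

variable (M E : Subgroup G)

/-- The hypotheses: `M` plays the normaliser of the elementary subgroup `E` of order eight. -/
structure Local : Prop where
  cardM : Nat.card M = 168
  le : E ≤ M
  cardE : Nat.card E = 8
  inv : ∀ x ∈ M, x * x = 1 → x ∈ E
  sq : ∀ x ∈ E, x * x = 1
  nrm : ∀ m ∈ M, ∀ e ∈ E, m * e * m⁻¹ ∈ E
  trans : ∀ i ∈ E, ∀ j ∈ E, i ≠ 1 → j ≠ 1 → ∃ m ∈ M, m * i * m⁻¹ = j
  cent : ∀ i : G, i * i = 1 → i ≠ 1 → Nat.card (centralizer ({i} : Set G)) = 24
  cent_le : ∀ i ∈ E, i ≠ 1 → centralizer ({i} : Set G) ≤ M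
  conj : ∀ i j : G, i * i = 1 → i ≠ 1 → j * j = 1 → j ≠ 1 → ∃ g, g * i * g⁻¹ = j

variable {M E}

theorem Local.seven_cent (h : Local M E) {i d : G} (hi : i * i = 1) (hi1 : i ≠ 1) (hd : orderOf d = 7) :
    d * i ≠ i * d := fun e => by
  have := (centralizer ({i} : Set G)).orderOf_dvd_natCard (mem_centralizer_singleton_iff.mpr e)
  rw [hd, h.cent i hi hi1] at this
  norm_num at this

theorem Local.mem_of_conj (h : Local M E) {i g : G} (hi : i ∈ E) (hi1 : i ≠ 1) (hg : g * i * g⁻¹ ∈ M) : g ∈ M := by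
  have hj : g * i * g⁻¹ ∈ E := h.inv _ hg (by rw [conj_mul, h.sq i hi]; group)
  obtain ⟨m, hm, e⟩ := h.trans i hi _ hj hi1 (by rw [ne_eq, conj_eq_one_iff]; exact hi1)
  have : m⁻¹ * g ∈ M := h.cent_le i hi hi1 (mem_centralizer_singleton_iff.mpr (by
    calc m⁻¹ * g * i = m⁻¹ * (g * i * g⁻¹) * g := by group
      _ = m⁻¹ * (m * i * m⁻¹) * g := by rw [e]
      _ = _ := by group))
  simpa using mul_mem hm this

/-- An involution outside inverts no element commuting with an involution inside. -/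
theorem Local.no_common (h : Local M E) {y i d : G} (hy : y * y = 1) (hyM : y ∉ M) (hi : i ∈ E) (hi1 : i ≠ 1)
    (hd : y * d * y = d⁻¹) (hc : d * i = i * d) : d * d = 1 := by
  have hyi : y⁻¹ = y := inv_eq_of_mul_eq_one_right hy
  have hii : i⁻¹ = i := inv_eq_of_mul_eq_one_right (h.sq i hi)
  set w := i * y with hw
  have hwy : y * w * y⁻¹ = w⁻¹ := by
    rw [hw, mul_inv_rev, hyi, hii, mul_assoc (y) (i * y), mul_assoc i, hy, mul_one]
  rcases Nat.even_or_odd (orderOf w) with ⟨m, hm⟩ | hodd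
  · exfalso
    set u := w ^ m with hu
    have hpos : 0 < m := by have := orderOf_pos w; omega
    have hu2 : u * u = 1 := by rw [hu, ← pow_add, ← hm, pow_orderOf_eq_one]
    have hu1 : u ≠ 1 := pow_ne_one_of_lt_orderOf hpos.ne' (by omega)
    have huy : y * u * y⁻¹ = u := by
      rw [hu, show y * w ^ m * y⁻¹ = (y * w * y⁻¹) ^ m from conj_pow.symm, hwy, inv_pow]
      exact inv_eq_of_mul_eq_one_right hu2
    have hui : i * u * i⁻¹ = u := by
      have e : i * u * i⁻¹ = w * (y * u * y⁻¹) * w⁻¹ := by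
        rw [hw, mul_inv_rev, hyi, hii]
        calc i * u * i = i * (y * y) * u * (y * y) * i := by rw [hy]; group
          _ = _ := by group
      rw [e, huy, hu, ← pow_succ', pow_succ, mul_inv_cancel_right]
    have huE : u ∈ E := h.inv u (h.cent_le i hi hi1 (mem_centralizer_singleton_iff.mpr
      (mul_inv_eq_iff_eq_mul.mp hui).symm)) hu2
    exact hyM (h.cent_le u huE hu1 (mem_centralizer_singleton_iff.mpr (mul_inv_eq_iff_eq_mul.mp huy)))
  · -- the two involutions are conjugate by a power of their product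
    obtain ⟨m, hm⟩ := hodd
    have hyw : ∀ n : ℕ, y * w ^ n * y⁻¹ = (w ^ n)⁻¹ := fun n => by
      rw [← conj_pow, hwy, inv_pow]
    set g := w ^ (m + 1) with hg
    have hgg : g * g = w := by
      rw [hg, ← pow_add, show m + 1 + (m + 1) = orderOf w + 1 by omega, pow_succ, pow_orderOf_eq_one, one_mul]
    have key : g * y * g⁻¹ = i := by
      calc g * y * g⁻¹ = g * (y * g⁻¹ * y⁻¹) * y := by group
        _ = g * g * y := by rw [show y * g⁻¹ * y⁻¹ = (y * g * y⁻¹)⁻¹ by group, hg, hyw, inv_inv]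
        _ = i := by rw [hgg, hw, mul_assoc, hy, mul_one]
    have hwd : w * d * w⁻¹ = d⁻¹ := by
      have h1 : Commute i d⁻¹ := (show Commute i d from hc.symm).inv_right
      calc w * d * w⁻¹ = i * (y * d * y) * i⁻¹ := by rw [hw, mul_inv_rev, hyi]; group
        _ = d⁻¹ := by rw [hd, h1.eq, mul_inv_cancel_right]
    have hpow : ∀ n : ℕ, w ^ n * d * (w ^ n)⁻¹ = d ∨ w ^ n * d * (w ^ n)⁻¹ = d⁻¹ := by
      intro n
      induction n with
      | zero => left; simp
      | succ n ih =>
        have e : w ^ (n + 1) * d * (w ^ (n + 1))⁻¹ = (w ^ n * d * (w ^ n)⁻¹)⁻¹ := by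
          rw [pow_succ, mul_inv_rev]
          calc w ^ n * w * d * (w⁻¹ * (w ^ n)⁻¹) = w ^ n * (w * d * w⁻¹) * (w ^ n)⁻¹ := by group
            _ = _ := by rw [hwd]; group
        rcases ih with e' | e'
        · exact Or.inr (by rw [e, e'])
        · exact Or.inl (by rw [e, e', inv_inv])
    have hy' : y = g⁻¹ * i * g := by rw [← key]; group
    have hgd : g⁻¹ * d * g = d ∨ g⁻¹ * d * g = d⁻¹ := by
      rcases hpow (m + 1) with e | e <;> rw [← hg] at e
      · left
        conv_lhs => rw [← e]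
        group
      · right
        have : d = (g * d * g⁻¹)⁻¹ := by rw [e, inv_inv]
        conv_lhs => rw [this]
        group
    have hcy : (g⁻¹ * d * g) * y = y * (g⁻¹ * d * g) := by
      rw [hy']
      calc g⁻¹ * d * g * (g⁻¹ * i * g) = g⁻¹ * (d * i) * g := by group
        _ = g⁻¹ * (i * d) * g := by rw [hc]
        _ = _ := by group
    have hdy : d * y = y * d := by
      rcases hgd with e | e <;> rw [e] at hcy
      · exact hcy
      · simpa using (Commute.inv_left (show Commute d⁻¹ y from hcy)).eq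
    have : d⁻¹ = d := by rw [← hd, ← hdy, mul_assoc, hy, mul_one]
    nth_rewrite 2 [← this]
    exact mul_inv_cancel d

/-- The elements of `M` inverted by an outer involution have order seven. -/
theorem Local.inverted_order (h : Local M E) {y d : G} (hy : y * y = 1) (hyM : y ∉ M) (hd : d ∈ M) (hd1 : d ≠ 1)
    (hyd : y * d * y = d⁻¹) : orderOf d = 7 := by
  have hpow : ∀ k : ℕ, y * d ^ k * y = (d ^ k)⁻¹ := by
    intro k
    induction k with
    | zero => rw [pow_zero, mul_one, hy, inv_one]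
    | succ m ih =>
      calc y * d ^ (m + 1) * y = (y * d ^ m * y) * (y * d * y) := by
            rw [pow_succ]
            calc y * (d ^ m * d) * y = y * d ^ m * (y * y) * d * y := by rw [hy]; group
              _ = _ := by group
        _ = (d * d ^ m)⁻¹ := by rw [ih, hyd, mul_inv_rev]
        _ = _ := by rw [← pow_succ']
  have hdvd : orderOf d ∣ 168 := h.cardM ▸ M.orderOf_dvd_natCard hd
  have no : ∀ k : ℕ, ∀ i ∈ E, i ≠ 1 → d ^ k * i = i * d ^ k → d ^ k * d ^ k = 1 := fun k i hi hi1 hc =>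
    h.no_common hy hyM hi hi1 (hpow k) hc
  have h2 : ¬ 2 ∣ orderOf d := by
    rintro ⟨k, hk⟩
    have hk0 : k ≠ 0 := fun e => (orderOf_pos d).ne' (by rw [hk, e, mul_zero])
    have hi : d ^ k ∈ E := h.inv _ (pow_mem hd k) (by rw [← pow_add, ← two_mul, ← hk, pow_orderOf_eq_one])
    have hi1 : d ^ k ≠ 1 := pow_ne_one_of_lt_orderOf hk0 (by omega)
    have hcd := no 1 _ hi hi1 (by rw [pow_one, ← pow_succ', pow_succ])
    rw [pow_one] at hcd
    -- an involution of `M` inverted from outside
    have hdE : d ∈ E := h.inv d hd hcd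
    have : y * d = d * y := by
      have hinv : d⁻¹ = d := inv_eq_of_mul_eq_one_right hcd
      calc y * d = y * d * y * y := by rw [mul_assoc _ y y, hy, mul_one]
        _ = _ := by rw [hyd, hinv]
    exact hyM (h.cent_le d hdE hd1 (mem_centralizer_singleton_iff.mpr this))
  have h3 : ¬ 3 ∣ orderOf d := by
    rintro ⟨k, hk⟩
    haveI : Fact (Nat.Prime 3) := ⟨Nat.prime_three⟩
    have hk0 : k ≠ 0 := fun e => (orderOf_pos d).ne' (by rw [hk, e, mul_zero])
    set x := d ^ k with hx
    have hx3 : x ^ 3 = 1 := by rw [hx, ← pow_mul, mul_comm, ← hk, pow_orderOf_eq_one]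
    have hx1 : x ≠ 1 := pow_ne_one_of_lt_orderOf hk0 (by omega)
    have hxM : x ∈ M := pow_mem hd k
    classical
    letI : Fintype E := Fintype.ofFinite E
    -- an element of order three fixes a point among seven
    let f : Equiv.Perm {e : E // e ≠ 1} :=
      { toFun := fun e => ⟨⟨x * e.1 * x⁻¹, h.nrm x hxM _ e.1.2⟩, fun q => e.2 (Subtype.ext (conj_eq_one_iff.mp
          (congrArg Subtype.val q)))⟩
        invFun := fun e => ⟨⟨x⁻¹ * e.1 * x⁻¹⁻¹, h.nrm _ (inv_mem hxM) _ e.1.2⟩, fun q => e.2 (Subtype.ext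
          (conj_eq_one_iff.mp (congrArg Subtype.val q)))⟩
        left_inv := fun e => by ext; simp [mul_assoc]
        right_inv := fun e => by ext; simp [mul_assoc] }
    have hf : f ^ 3 = 1 := by
      refine Equiv.ext fun e => Subtype.ext (Subtype.ext ?_)
      show x * (x * (x * e.1 * x⁻¹) * x⁻¹) * x⁻¹ = e.1
      calc x * (x * (x * (e.1 : G) * x⁻¹) * x⁻¹) * x⁻¹ = (x * x * x) * e.1 * (x * x * x)⁻¹ := by group
        _ = _ := by rw [← pow_three', hx3]; group
    have hcard : Fintype.card {e : E // e ≠ 1} = 7 := by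
      rw [Fintype.card_subtype_compl, Fintype.card_subtype_eq, ← Nat.card_eq_fintype_card, h.cardE]
    obtain ⟨e, he⟩ : ∃ e, f e = e := Equiv.Perm.exists_fixed_point_of_prime (p := 3) (n := 1)
      (by rw [hcard]; norm_num) (by rw [pow_one]; exact hf)
    have hc : x * (e.1 : G) = e.1 * x :=
      mul_inv_eq_iff_eq_mul.mp (congrArg (fun e : {e : E // e ≠ 1} => ((e.1 : E) : G)) he)
    have h2x := no k _ e.1.2 (fun q => e.2 (Subtype.ext q)) hc
    refine hx1 ?_
    calc x = x * x * x := by rw [h2x, one_mul]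
      _ = 1 := by rw [← pow_three', hx3]
  have h7 : orderOf d ∣ 7 := by
    have c2 : Nat.Coprime (orderOf d) 8 :=
      ((Nat.Prime.coprime_iff_not_dvd Nat.prime_two).mpr h2).symm.pow_right 3
    have c3 : Nat.Coprime (orderOf d) 3 := ((Nat.Prime.coprime_iff_not_dvd Nat.prime_three).mpr h3).symm
    exact (c2.mul_right c3).dvd_of_dvd_mul_left (by simpa using hdvd)
  rcases (Nat.dvd_prime (by norm_num)).mp h7 with e | e
  · exact absurd (orderOf_eq_one_iff.mp e) hd1
  · exact e

/-- The inverted elements for one involution. -/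
theorem Local.card_inverted_le (h : Local M E) {y : G} (hy : y * y = 1) (hyM : y ∉ M) :
    Nat.card {d : G // d ∈ M ∧ y * d * y = d⁻¹} ≤ 7 := by
  classical
  haveI : Fact (Nat.Prime 7) := ⟨by norm_num⟩
  by_cases hne : ∃ d, d ∈ M ∧ y * d * y = d⁻¹ ∧ d ≠ 1
  swap
  · push Not at hne
    refine le_trans (Nat.card_le_card_of_injective (fun _ => ()) (fun a b _ => Subtype.ext ?_)) (by simp)
    rw [hne _ a.2.1 a.2.2, hne _ b.2.1 b.2.2]
  obtain ⟨d, hd, hyd, hd1⟩ := hne
  have ho := h.inverted_order hy hyM hd hd1 hyd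
  let H : Subgroup G := M ⊓ M.map (MulAut.conj y).toMonoidHom
  have hmem : ∀ {e : G}, e ∈ M → y * e * y = e⁻¹ → e ∈ H := fun {e} he hye =>
    mem_inf.mpr ⟨he, ⟨e⁻¹, inv_mem he, by
      show y * e⁻¹ * y⁻¹ = e
      rw [← hye, inv_eq_of_mul_eq_one_right hy]
      calc y * (y * e * y) * y = y * y * e * (y * y) := by group
        _ = e := by rw [hy]; group⟩⟩
  have hH2 : ¬ 2 ∣ Nat.card H := by
    intro h2
    haveI : Fact (Nat.Prime 2) := ⟨Nat.prime_two⟩
    obtain ⟨⟨i, hi⟩, hio⟩ := exists_prime_orderOf_dvd_card' 2 h2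
    rw [Subgroup.orderOf_mk, involution_iff] at hio
    obtain ⟨hiM, j, hj, hji⟩ := mem_inf.mp hi
    have hji' : y * j * y⁻¹ = i := hji
    refine hyM (h.mem_of_conj (h.inv i hiM hio.1) hio.2 ?_)
    rw [← hji', inv_eq_of_mul_eq_one_right hy]
    rw [show y * (y * j * y) * y = y * y * j * (y * y) by group, hy, one_mul, mul_one]
    exact hj
  have hH : Nat.card H ≤ 21 := by
    have hd' : Nat.card H ∣ 168 := h.cardM ▸ card_dvd_of_le inf_le_left
    exact Nat.le_of_dvd (by norm_num) ((((Nat.Prime.coprime_iff_not_dvd Nat.prime_two).mpr hH2).symm.pow_right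
      3).dvd_of_dvd_mul_left (show Nat.card H ∣ 8 * 21 by simpa using hd'))
  have hall : ∀ e, e ∈ M → y * e * y = e⁻¹ → e ∈ zpowers d := by
    intro e he hye
    by_contra hne
    have he1 : e ≠ 1 := fun q => hne (q ▸ one_mem _)
    have hoe := h.inverted_order hy hyM he he1 hye
    have hdis : Disjoint (zpowers d) (zpowers e) := by
      rw [disjoint_iff, eq_bot_iff_forall]
      rintro z ⟨hzd, hze⟩
      by_contra hz
      refine hne ?_
      have hz7 : Nat.card (zpowers z) = 7 := by
        have := card_dvd_of_le (zpowers_le.mpr hzd)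
        rw [Nat.card_zpowers d, ho] at this
        rcases (Nat.dvd_prime (by norm_num)).mp this with q | q
        · exact absurd (zpowers_eq_bot.mp (card_eq_one.mp q)) hz
        · exact q
      have hze' : zpowers z = zpowers e := eq_of_le_of_card_ge (zpowers_le.mpr hze) (by rw [hz7, Nat.card_zpowers, hoe])
      exact zpowers_le.mpr hzd (hze' ▸ mem_zpowers e)
    have := Nat.card_le_card_of_injective
      (fun q : zpowers d × zpowers e => (⟨(q.1 : G) * q.2, mul_mem (zpowers_le.mpr (hmem hd hyd) q.1.2)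
        (zpowers_le.mpr (hmem he hye) q.2.2)⟩ : H)) (fun a b q => mul_injective_of_disjoint hdis (congrArg Subtype.val q))
    rw [Nat.card_prod, Nat.card_zpowers, Nat.card_zpowers, ho, hoe] at this
    omega
  calc Nat.card {d : G // d ∈ M ∧ y * d * y = d⁻¹} ≤ Nat.card (zpowers d) :=
        Nat.card_le_card_of_injective (fun e => (⟨e.1, hall e.1 e.2.1 e.2.2⟩ : zpowers d))
          (fun a b q => Subtype.ext (congrArg (fun z : zpowers d => (z : G)) q))
    _ = 7 := by rw [Nat.card_zpowers, ho]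

theorem odd_dvd : ∀ c < 25, c ∣ 24 → c % 2 = 1 → c = 1 ∨ c = 3 := by decide +kernel

/-- No such simple group exists. -/
theorem Local.false [IsSimpleGroup G] (h : Local M E) (hG : ¬ IsMulCommutative G) : False := by
  classical
  letI := Fintype.ofFinite G
  haveI : Fact (Nat.Prime 2) := ⟨Nat.prime_two⟩
  haveI : Fact (Nat.Prime 7) := ⟨by norm_num⟩
  obtain ⟨t, htE, ht1⟩ : ∃ t ∈ E, t ≠ 1 := (Subgroup.bot_or_exists_ne_one E).resolve_left fun e => by
    have := h.cardE; rw [e, card_bot] at this; omega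
  have htt := h.sq t htE
  -- the number of involutions
  set n := M.index with hn
  have hGn : Nat.card G = 168 * n := by rw [← h.cardM]; exact (Subgroup.card_mul_index M).symm
  have hI : Nat.card {y : G // y * y = 1 ∧ y ≠ 1} = 7 * n := by
    set C := centralizer ({t} : Set G) with hCdef
    let e : G ⧸ C → {y : G // y * y = 1 ∧ y ≠ 1} := Quotient.lift
      (fun g => ⟨g * t * g⁻¹, by rw [conj_mul, htt]; group, by rw [ne_eq, conj_eq_one_iff]; exact ht1⟩)
      (fun a b q => Subtype.ext (by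
        have q' : a⁻¹ * b ∈ C := QuotientGroup.leftRel_apply.mp q
        rw [hCdef, mem_centralizer_singleton_iff] at q'
        show a * t * a⁻¹ = b * t * b⁻¹
        calc a * t * a⁻¹ = a * (t * (a⁻¹ * b)) * b⁻¹ := by group
          _ = a * (a⁻¹ * b * t) * b⁻¹ := by rw [q']
          _ = _ := by group))
    have hbij : Function.Bijective e := by
      refine ⟨fun p q => Quotient.inductionOn₂ p q fun a b q => Quotient.sound ?inj, ?surj⟩
      case inj =>
        have q' : a * t * a⁻¹ = b * t * b⁻¹ := congrArg Subtype.val q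
        show QuotientGroup.leftRel C a b
        rw [QuotientGroup.leftRel_apply, hCdef, mem_centralizer_singleton_iff]
        calc a⁻¹ * b * t = a⁻¹ * (b * t * b⁻¹) * b := by group
          _ = a⁻¹ * (a * t * a⁻¹) * b := by rw [q']
          _ = _ := by group
      case surj =>
        rintro ⟨y, hy, hy1⟩
        obtain ⟨g, hg⟩ := h.conj t y htt ht1 hy hy1
        exact ⟨QuotientGroup.mk g, Subtype.ext hg⟩
    rw [← Nat.card_eq_of_bijective e hbij, ← Subgroup.index_eq_card]
    have := Subgroup.card_mul_index C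
    rw [h.cent t htt ht1, hGn] at this
    omega
  have hout : Nat.card {y : G // y * y = 1 ∧ y ∉ M} + 7 = 7 * n := by
    have e2 : {y : G // y * y = 1 ∧ y ∈ M ∧ y ≠ 1} ≃ {e : E // e ≠ 1} :=
      { toFun := fun y => ⟨⟨y.1, h.inv _ y.2.2.1 y.2.1⟩, fun q => y.2.2.2 (congrArg Subtype.val q)⟩
        invFun := fun e => ⟨e.1.1, h.sq _ e.1.2, h.le e.1.2, fun q => e.2 (Subtype.ext q)⟩
        left_inv := fun y => rfl
        right_inv := fun e => rfl }
    have h7 : Nat.card {y : G // y * y = 1 ∧ y ∈ M ∧ y ≠ 1} = 7 := by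
      letI : Fintype E := Fintype.ofFinite E
      rw [Nat.card_congr e2, Nat.card_eq_fintype_card, Fintype.card_subtype_compl, Fintype.card_subtype_eq,
        ← Nat.card_eq_fintype_card, h.cardE]
    conv_lhs => arg 2; rw [← h7]
    rw [← hI, ← Nat.card_sum]
    refine Nat.card_congr
      { toFun := Sum.elim (fun y => ⟨y.1, y.2.1, fun q => y.2.2 (by rw [q]; exact one_mem _)⟩)
          (fun y => ⟨y.1, y.2.1, y.2.2.2⟩)
        invFun := fun y => if q : y.1 ∈ M then Sum.inr ⟨y.1, y.2.1, q, y.2.2⟩ else Sum.inl ⟨y.1, y.2.1, q⟩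
        left_inv := ?_, right_inv := ?_ }
    · rintro (⟨y, h1, h2⟩ | ⟨y, h1, h2, h3⟩)
      · simp [h2]
      · simp [h2]
    · rintro ⟨y, h1, h2⟩
      by_cases q : y ∈ M <;> simp [q]
  -- every fibre is full
  set O := Finset.univ.filter (fun y : G => y * y = 1 ∧ y ∉ M) with hO
  have hOc : O.card + 7 = 7 * n := by
    rw [hO, ← Fintype.card_subtype, ← Nat.card_eq_fintype_card]
    exact hout
  have hn2 : 2 ≤ n := by
    have h0 : n ≠ 0 := Subgroup.index_ne_zero_of_finite
    have h1 : n ≠ 1 := fun e => by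
      have htop : M = ⊤ := Subgroup.index_eq_one.mp e
      have hEn : E.Normal := ⟨fun x hx g => h.nrm g (htop ▸ mem_top g) x hx⟩
      rcases hEn.eq_bot_or_eq_top with q | q
      · have := h.cardE; rw [q, card_bot] at this; omega
      · have := h.cardE; rw [q, card_top, hGn, e] at this; omega
    omega
  set Q := (Finset.univ : Finset (G ⧸ M)).erase ((1 : G) : G ⧸ M) with hQ
  have hQc : Q.card + 1 = n := by
    rw [hQ, Finset.card_erase_add_one (Finset.mem_univ _), Finset.card_univ, ← Nat.card_eq_fintype_card]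
    exact (Subgroup.index_eq_card M).symm
  have hmap : ∀ y ∈ O, (y : G ⧸ M) ∈ Q := fun y hy => Finset.mem_erase.mpr ⟨fun q => (Finset.mem_filter.mp hy).2.2
    (by simpa using inv_mem (QuotientGroup.eq.mp q)), Finset.mem_univ _⟩
  let Dy : G → Finset G := fun y => Finset.univ.filter fun d => d ∈ M ∧ y * d * y = d⁻¹
  have hDle : ∀ y ∈ O, (Dy y).card ≤ 7 := fun y hy => by
    have := h.card_inverted_le (Finset.mem_filter.mp hy).2.1 (Finset.mem_filter.mp hy).2.2
    rwa [Nat.card_eq_fintype_card, Fintype.card_subtype] at this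
  have hfib : ∀ y ∈ O, (O.filter fun z : G => (QuotientGroup.mk z : G ⧸ M) = QuotientGroup.mk y).card = (Dy y).card := by
    intro y hy
    have hyy := (Finset.mem_filter.mp hy).2.1
    refine Finset.card_bij (fun z _ => y * z) (fun z hz => ?_) (fun a _ b _ q => mul_left_cancel q) (fun d hd => ?_)
    · obtain ⟨hzO, hzy⟩ := Finset.mem_filter.mp hz
      have hzz := (Finset.mem_filter.mp hzO).2.1
      refine Finset.mem_filter.mpr ⟨Finset.mem_univ _, ?_, ?_⟩
      · have := QuotientGroup.eq.mp hzy.symm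
        rwa [inv_eq_of_mul_eq_one_right hyy] at this
      · rw [mul_inv_rev, inv_eq_of_mul_eq_one_right hyy, inv_eq_of_mul_eq_one_right hzz, ← mul_assoc, hyy, one_mul]
    · obtain ⟨-, hdM, hd⟩ := Finset.mem_filter.mp hd
      refine ⟨y * d, Finset.mem_filter.mpr ⟨Finset.mem_filter.mpr ⟨Finset.mem_univ _, ?_, fun q => ?_⟩, ?_⟩, ?_⟩
      · rw [← mul_assoc, hd, inv_mul_cancel]
      · exact (Finset.mem_filter.mp hy).2.2 (by simpa using mul_mem q (inv_mem hdM))
      · exact (QuotientGroup.eq.mpr (by rw [← mul_assoc, inv_mul_cancel, one_mul]; exact hdM)).symm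
      · rw [← mul_assoc, hyy, one_mul]
  have hfle : ∀ q ∈ Q, (O.filter fun z : G => (QuotientGroup.mk z : G ⧸ M) = q).card ≤ 7 := by
    intro q _
    rcases (O.filter fun z : G => (QuotientGroup.mk z : G ⧸ M) = q).eq_empty_or_nonempty with e | ⟨y, hy⟩
    · rw [e]; simp
    · obtain ⟨hyO, hyq⟩ := Finset.mem_filter.mp hy
      rw [← hyq, hfib y hyO]
      exact hDle y hyO
  have hfull : ∀ y ∈ O, (Dy y).card = 7 := by
    intro y hy
    by_contra hne
    have hlt : (O.filter fun z : G => (QuotientGroup.mk z : G ⧸ M) = QuotientGroup.mk y).card < 7 := by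
      rw [hfib y hy]; exact lt_of_le_of_ne (hDle y hy) hne
    have := Finset.sum_lt_sum hfle ⟨_, hmap y hy, hlt⟩
    rw [← Finset.card_eq_sum_card_fiberwise hmap, Finset.sum_const, smul_eq_mul] at this
    omega
  -- count the inverted elements of order seven
  set Ω := Finset.univ.filter (fun d : G => d ∈ M ∧ orderOf d = 7) with hΩ
  let kk : G → ℕ := fun d => (O.filter fun y => y * d * y = d⁻¹).card
  have hdc : ∑ d ∈ Ω, kk d = 6 * O.card := by
    have h6 : ∀ y ∈ O, (Ω.filter fun d => y * d * y = d⁻¹).card = 6 := by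
      intro y hy
      obtain ⟨-, hyy, hyM⟩ := Finset.mem_filter.mp hy
      have e : Ω.filter (fun d => y * d * y = d⁻¹) = (Dy y).erase 1 := by
        ext d
        simp only [hΩ, Dy, Finset.mem_filter, Finset.mem_erase, Finset.mem_univ, true_and]
        constructor
        · rintro ⟨⟨hd, ho⟩, hi⟩
          exact ⟨fun q => by rw [q, orderOf_one] at ho; omega, hd, hi⟩
        · rintro ⟨hd1, hd, hi⟩
          exact ⟨⟨hd, h.inverted_order hyy hyM hd hd1 hi⟩, hi⟩
      rw [e, Finset.card_erase_of_mem (Finset.mem_filter.mpr ⟨Finset.mem_univ _, one_mem _, by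
        rw [mul_one, hyy, inv_one]⟩), hfull y hy]
    show ∑ d ∈ Ω, (O.filter fun y => y * d * y = d⁻¹).card = _
    rw [Finset.sum_congr rfl (fun d _ => Finset.card_filter (fun y => y * d * y = d⁻¹) O), Finset.sum_comm,
      Finset.sum_congr rfl (fun y hy => (Finset.card_filter (fun d => y * d * y = d⁻¹) Ω).symm.trans (h6 y hy)),
      Finset.sum_const, smul_eq_mul, mul_comm]
  -- all elements of order seven of `M` are inverted equally often
  obtain ⟨y0, hy0⟩ : O.Nonempty := Finset.card_pos.mp (by omega)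
  obtain ⟨-, hy0y, hy0M⟩ := Finset.mem_filter.mp hy0
  obtain ⟨ρ, hρ⟩ : ((Dy y0).erase 1).Nonempty := Finset.card_pos.mp (by
    have := hfull y0 hy0
    have := Finset.pred_card_le_card_erase (a := (1 : G)) (s := Dy y0)
    omega)
  obtain ⟨hρ1, hρD⟩ := Finset.mem_erase.mp hρ
  obtain ⟨-, hρM, hρy⟩ := Finset.mem_filter.mp hρD
  have hρo := h.inverted_order hy0y hy0M hρM hρ1 hρy
  have hkk_conj : ∀ d, ∀ m ∈ M, kk (m * d * m⁻¹) = kk d := by
    intro d m hm
    refine Finset.card_bij (fun y _ => m⁻¹ * y * m) (fun y hy => ?_) (fun a _ b _ q => ?_) (fun y hy => ?_)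
    · obtain ⟨hyO, hi⟩ := Finset.mem_filter.mp hy
      obtain ⟨-, hyy, hyM⟩ := Finset.mem_filter.mp hyO
      refine Finset.mem_filter.mpr ⟨Finset.mem_filter.mpr ⟨Finset.mem_univ _, ?_, fun q => hyM ?_⟩, ?_⟩
      · calc m⁻¹ * y * m * (m⁻¹ * y * m) = m⁻¹ * (y * y) * m := by group
          _ = 1 := by rw [hyy]; group
      · simpa [mul_assoc] using mul_mem (mul_mem hm q) (inv_mem hm)
      · calc m⁻¹ * y * m * d * (m⁻¹ * y * m) = m⁻¹ * (y * (m * d * m⁻¹) * y) * m := by group
          _ = d⁻¹ := by rw [hi]; group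
    · simpa using q
    · obtain ⟨hyO, hi⟩ := Finset.mem_filter.mp hy
      obtain ⟨-, hyy, hyM⟩ := Finset.mem_filter.mp hyO
      refine ⟨m * y * m⁻¹, Finset.mem_filter.mpr ⟨Finset.mem_filter.mpr ⟨Finset.mem_univ _, ?_, fun q => hyM ?_⟩, ?_⟩,
        by group⟩
      · rw [conj_mul, hyy]; group
      · simpa [mul_assoc] using mul_mem (mul_mem (inv_mem hm) q) hm
      · calc m * y * m⁻¹ * (m * d * m⁻¹) * (m * y * m⁻¹) = m * (y * d * y) * m⁻¹ := by group
          _ = _ := by rw [hi]; group
  have hkk_zp : ∀ d e : G, zpowers d = zpowers e → kk d = kk e := by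
    have key : ∀ d e : G, d ∈ zpowers e → ∀ y : G, y * y = 1 → y * e * y = e⁻¹ → y * d * y = d⁻¹ := by
      intro d e hde y hy hi
      obtain ⟨j, rfl⟩ := mem_zpowers_iff.mp hde
      have := congrArg (· ^ j) hi
      simp only [inv_zpow] at this
      rw [show y * e * y = y * e * y⁻¹ by rw [inv_eq_of_mul_eq_one_right hy], conj_zpow,
        inv_eq_of_mul_eq_one_right hy] at this
      exact this
    intro d e q
    refine congrArg Finset.card (Finset.filter_congr fun y hy => ?_)
    have hyy := (Finset.mem_filter.mp hy).2.1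
    exact ⟨key e d (q ▸ mem_zpowers e) y hyy, key d e (q ▸ mem_zpowers d) y hyy⟩
  -- the Sylow subgroups of order seven
  have hfac : Nat.factorization 168 7 = 1 := by
    rw [show (168 : ℕ) = 7 * 24 from rfl, Nat.factorization_mul (by norm_num) (by norm_num), Finsupp.add_apply,
      (show Nat.Prime 7 by norm_num).factorization_self, Nat.factorization_eq_zero_of_not_dvd (by norm_num)]
  have hsyl : ∀ d ∈ M, orderOf d = 7 → ∃ P : Sylow 7 M, (P : Subgroup M).map M.subtype = zpowers d := by
    intro d hd ho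
    refine ⟨Sylow.ofCard (zpowers (⟨d, hd⟩ : M)) (by rw [Nat.card_zpowers, Subgroup.orderOf_mk, ho, h.cardM, hfac,
      pow_one]), ?_⟩
    rw [Sylow.coe_ofCard, MonoidHom.map_zpowers]
    rfl
  have hkk : ∀ d ∈ Ω, kk d = kk ρ := by
    intro d hd
    obtain ⟨-, hdM, hdo⟩ := Finset.mem_filter.mp hd
    obtain ⟨P, hP⟩ := hsyl d hdM hdo
    obtain ⟨R, hR⟩ := hsyl ρ hρM hρo
    obtain ⟨⟨m, hm⟩, hmP⟩ := MulAction.exists_smul_eq M R P
    rw [← hkk_conj ρ m hm]
    refine hkk_zp _ _ ?_
    rw [← hP, ← hmP]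
    have : ρ ∈ (R : Subgroup M).map M.subtype := hR ▸ mem_zpowers ρ
    obtain ⟨r, hr, hre⟩ := this
    have hle : zpowers (m * ρ * m⁻¹) ≤ (((⟨m, hm⟩ : M) • R : Sylow 7 M) : Subgroup M).map M.subtype := by
      rw [zpowers_le, Sylow.coe_subgroup_smul]
      exact ⟨⟨m, hm⟩ * r * (⟨m, hm⟩ : M)⁻¹, Subgroup.smul_mem_pointwise_smul r (MulAut.conj (⟨m, hm⟩ : M)) _ hr, by
        rw [map_mul, map_mul, map_inv, hre]; rfl⟩
    refine (eq_of_le_of_card_ge hle ?_).symm
    rw [hmP, hP, Nat.card_zpowers, Nat.card_zpowers, hdo, show orderOf (m * ρ * m⁻¹) = orderOf ρ from MulEquiv.orderOf_eq (MulAut.conj m) ρ]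
    exact hρo.ge
  have hΩc : Ω.card = 48 := by
    have hP7 : ∀ P : Sylow 7 M, Nat.card (P : Subgroup M) = 7 := fun P => by
      rw [P.card_eq_multiplicity, h.cardM, hfac, pow_one]
    have hn7 : Nat.card (Sylow 7 M) = 8 := by
      obtain ⟨R, hR⟩ := hsyl ρ hρM hρo
      have hd : Nat.card (Sylow 7 M) ∣ 24 := by
        have := R.card_dvd_index
        rw [show (R : Subgroup M).index = 24 by
          have e := Subgroup.card_mul_index (R : Subgroup M); rw [hP7, h.cardM] at e; omega] at this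
        exact this
      have hm := card_sylow_modEq_one 7 M
      have hle := Nat.le_of_dvd (by norm_num) hd
      have hne : Nat.card (Sylow 7 M) ≠ 1 := by
        intro e
        haveI : Subsingleton (Sylow 7 M) := (Nat.card_eq_one_iff_unique.mp e).1
        haveI hRn : (R : Subgroup M).Normal := Sylow.normal_of_subsingleton R
        refine h.seven_cent htt ht1 hρo ?_
        obtain ⟨r, hr, hre⟩ : ρ ∈ (R : Subgroup M).map M.subtype := hR ▸ mem_zpowers ρ
        have h1 : ρ * t * ρ⁻¹ * t⁻¹ ∈ E := mul_mem (h.nrm ρ hρM t htE) (inv_mem htE)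
        have h2 : ρ * t * ρ⁻¹ * t⁻¹ ∈ (R : Subgroup M).map M.subtype := by
          refine ⟨r * ((⟨t, h.le htE⟩ : M) * r⁻¹ * (⟨t, h.le htE⟩ : M)⁻¹), mul_mem hr (hRn.conj_mem _ (inv_mem hr) _), ?_⟩
          rw [← hre]
          simp [mul_assoc]
        have hsq := h.sq _ h1
        have hd7 : orderOf (ρ * t * ρ⁻¹ * t⁻¹) ∣ 7 := by
          rw [hR] at h2
          have := (zpowers ρ).orderOf_dvd_natCard h2
          rwa [Nat.card_zpowers, hρo] at this
        have hd2 : orderOf (ρ * t * ρ⁻¹ * t⁻¹) ∣ 2 := orderOf_dvd_of_pow_eq_one (by rw [pow_two]; exact hsq)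
        have := orderOf_eq_one_iff.mp (Nat.eq_one_of_dvd_coprimes (by norm_num : Nat.Coprime 7 2) hd7 hd2)
        exact mul_inv_eq_iff_eq_mul.mp (mul_inv_eq_one.mp this)
      unfold Nat.ModEq at hm
      interval_cases hN : Nat.card (Sylow 7 M) <;> simp_all
    letI : Fintype (Sylow 7 M) := Fintype.ofFinite _
    have hmem : ∀ P : Sylow 7 M, (Ω.filter fun d => d ∈ (P : Subgroup M).map M.subtype) =
        (Finset.univ.filter fun d : G => d ∈ (P : Subgroup M).map M.subtype).erase 1 := by
      intro P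
      ext d
      simp only [hΩ, Finset.mem_filter, Finset.mem_erase, Finset.mem_univ, true_and]
      constructor
      · rintro ⟨⟨-, ho⟩, hd⟩
        exact ⟨fun q => by rw [q, orderOf_one] at ho; omega, hd⟩
      · rintro ⟨hd1, hd⟩
        refine ⟨⟨map_subtype_le _ hd, ?_⟩, hd⟩
        have := ((P : Subgroup M).map M.subtype).orderOf_dvd_natCard hd
        rw [card_map_of_injective M.subtype_injective, hP7] at this
        rcases (Nat.dvd_prime (by norm_num)).mp this with q | q
        · exact absurd (orderOf_eq_one_iff.mp q) hd1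
        · exact q
    have hone : ∀ d ∈ Ω, (Finset.univ.filter fun P : Sylow 7 M => d ∈ (P : Subgroup M).map M.subtype).card = 1 := by
      intro d hd
      obtain ⟨-, hdM, hdo⟩ := Finset.mem_filter.mp hd
      obtain ⟨P, hP⟩ := hsyl d hdM hdo
      refine Finset.card_eq_one.mpr ⟨P, Finset.ext fun R => ?_⟩
      rw [Finset.mem_filter, Finset.mem_singleton]
      refine ⟨fun ⟨_, hR⟩ => Sylow.ext (Subgroup.map_injective M.subtype_injective ?_), fun e => ⟨Finset.mem_univ _,
        by rw [e, hP]; exact mem_zpowers d⟩⟩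
      rw [hP]
      refine (eq_of_le_of_card_ge (zpowers_le.mpr hR) ?_).symm
      rw [card_map_of_injective M.subtype_injective, hP7, Nat.card_zpowers, hdo]
    have h6 : ∀ P : Sylow 7 M, (Ω.filter fun d => d ∈ (P : Subgroup M).map M.subtype).card = 6 := by
      intro P
      rw [hmem P, Finset.card_erase_of_mem (Finset.mem_filter.mpr ⟨Finset.mem_univ _, one_mem _⟩),
        ← Fintype.card_subtype, ← Nat.card_eq_fintype_card]
      show Nat.card ((P : Subgroup M).map M.subtype) - 1 = 6
      rw [card_map_of_injective M.subtype_injective, hP7]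
    calc Ω.card = ∑ d ∈ Ω, (Finset.univ.filter fun P : Sylow 7 M => d ∈ (P : Subgroup M).map M.subtype).card := by
          rw [Finset.sum_congr rfl hone, Finset.sum_const, smul_eq_mul, mul_one]
      _ = ∑ P : Sylow 7 M, (Ω.filter fun d => d ∈ (P : Subgroup M).map M.subtype).card := by
          simp only [Finset.card_filter]
          exact Finset.sum_comm
      _ = 48 := by
          rw [Finset.sum_congr rfl (fun P _ => h6 P), Finset.sum_const, Finset.card_univ, ← Nat.card_eq_fintype_card,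
            hn7]
          rfl
  have hk : 48 * kk ρ = 6 * O.card := by
    rw [← hdc, Finset.sum_congr rfl hkk, Finset.sum_const, hΩc, smul_eq_mul]
  -- the centraliser of an element of order seven
  set A := centralizer ({ρ} : Set G) with hA
  have hAodd : Odd (Nat.card A) := by
    rw [← Nat.not_even_iff_odd]
    intro he
    obtain ⟨⟨i, hi⟩, hio⟩ := exists_prime_orderOf_dvd_card' (G := A) 2 he.two_dvd
    rw [Subgroup.orderOf_mk, involution_iff] at hio
    exact h.seven_cent hio.1 hio.2 hρo (mem_centralizer_singleton_iff.mp hi).symm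
  have hyA : ∀ a ∈ A, y0 * a * y0 ∈ A := by
    intro a ha
    rw [hA, mem_centralizer_singleton_iff] at ha ⊢
    have hc : Commute a ρ⁻¹ := (show Commute a ρ from ha).inv_right
    have e1 : y0 * ρ⁻¹ = ρ * y0 := by
      rw [← hρy, ← mul_assoc, ← mul_assoc, hy0y, one_mul]
    have e2 : ρ⁻¹ * y0 = y0 * ρ := by
      rw [← hρy, mul_assoc, hy0y, mul_one]
    calc y0 * a * y0 * ρ = y0 * (a * ρ⁻¹) * y0 := by rw [mul_assoc (y0 * a), ← e2]; group
      _ = y0 * ρ⁻¹ * (a * y0) := by rw [hc.eq]; group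
      _ = _ := by rw [e1]; group
  have hinvert := card_fixed_mul_inverted A hAodd hy0y hyA
  have hkI : Nat.card {a : G // a ∈ A ∧ y0 * a * y0 = a⁻¹} = kk ρ := by
    rw [Nat.card_eq_fintype_card, Fintype.card_subtype]
    refine Finset.card_bij (fun a _ => y0 * a) (fun a ha => ?_) (fun a _ b _ q => mul_left_cancel q) (fun y hy => ?_)
    · obtain ⟨-, haA, hai⟩ := Finset.mem_filter.mp ha
      rw [hA, mem_centralizer_singleton_iff] at haA
      have hyy : y0 * a * (y0 * a) = 1 := by rw [← mul_assoc, hai, inv_mul_cancel]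
      have hi : y0 * a * ρ * (y0 * a) = ρ⁻¹ := by
        calc y0 * a * ρ * (y0 * a) = y0 * (a * ρ) * y0 * a := by group
          _ = (y0 * ρ * y0) * (y0 * a * y0) * a := by
            rw [haA]
            calc y0 * (ρ * a) * y0 * a = y0 * ρ * (y0 * y0) * a * y0 * a := by rw [hy0y]; group
              _ = _ := by group
          _ = ρ⁻¹ := by rw [hai, hρy]; group
      refine Finset.mem_filter.mpr ⟨Finset.mem_filter.mpr ⟨Finset.mem_univ _, hyy, fun q => ?_⟩, hi⟩
      set y := y0 * a
      have hyE := h.inv y q hyy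
      have hρ2 : ρ ^ 2 ∈ E := by
        have h1 := mul_mem hyE (h.nrm ρ hρM y hyE)
        have hyρ : y * ρ = ρ⁻¹ * y := by rw [← hi, mul_assoc _ y y, hyy, mul_one]
        have h2 : y * (ρ * y * ρ⁻¹) = (ρ ^ 2)⁻¹ := by
          calc y * (ρ * y * ρ⁻¹) = y * ρ * y * ρ⁻¹ := by group
            _ = _ := by rw [hi]; group
        exact inv_mem_iff.mp (h2 ▸ h1)
      have h4 := orderOf_dvd_of_pow_eq_one (show ρ ^ 4 = 1 by
        rw [show (4 : ℕ) = 2 + 2 from rfl, pow_add]; exact h.sq _ hρ2)
      rw [hρo] at h4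
      norm_num at h4
    · obtain ⟨hyO, hi⟩ := Finset.mem_filter.mp hy
      obtain ⟨-, hyy, hyM⟩ := Finset.mem_filter.mp hyO
      have hinv : y0⁻¹ = y0 := inv_eq_of_mul_eq_one_right hy0y
      refine ⟨y0 * y, Finset.mem_filter.mpr ⟨Finset.mem_univ _, ?_, ?_⟩, by rw [← mul_assoc, hy0y, one_mul]⟩
      · rw [hA, mem_centralizer_singleton_iff]
        calc y0 * y * ρ = y0 * (y * ρ * y) * y := by
              rw [show y0 * (y * ρ * y) * y = y0 * y * ρ * (y * y) by group, hyy, mul_one]
          _ = y0 * ρ⁻¹ * y := by rw [hi]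
          _ = ρ * (y0 * y) := by
            rw [← hρy, ← mul_assoc, ← mul_assoc, hy0y, one_mul, mul_assoc]
      · rw [mul_inv_rev, hinv, inv_eq_of_mul_eq_one_right hyy, ← mul_assoc y0 y0, hy0y, one_mul]
  rw [hkI] at hinvert
  set c := Nat.card (A ⊓ centralizer ({y0} : Set G) : Subgroup G)
  set k := kk ρ
  have hc : c ∣ 24 := by
    rw [← h.cent y0 hy0y (fun q => hy0M (by rw [q]; exact one_mem _))]
    exact card_dvd_of_le inf_le_right
  have hAG : c * k ∣ 168 * n := by rw [hinvert, ← hGn]; exact card_subgroup_dvd_card A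
  have h7A : 7 ∣ c * k := by
    rw [hinvert, ← hρo]
    exact A.orderOf_dvd_natCard (by rw [hA, mem_centralizer_singleton_iff])
  have hodd : Odd (c * k) := hinvert ▸ hAodd
  have e1 : 168 * n = 168 + 192 * k := by omega
  have hk168 : k ∣ 168 := (Nat.dvd_add_left (dvd_mul_left k 192)).mp (e1 ▸ (dvd_mul_left k c).trans hAG)
  have hc3 : c = 1 ∨ c = 3 := by
    exact odd_dvd _ (by have := Nat.le_of_dvd (by norm_num) hc; omega) hc (Nat.odd_iff.mp (Nat.odd_mul.mp hodd).1)
  have h7k : 7 ∣ k := by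
    rcases hc3 with e | e <;> rw [e] at h7A <;> omega
  have hk21 : k = 7 ∨ k = 21 := by
    obtain ⟨j, hj⟩ := h7k
    rw [hj] at hk168
    have hj24 : j ∣ 24 := Nat.dvd_of_mul_dvd_mul_left (by norm_num : 0 < 7) hk168
    have := Nat.le_of_dvd (by norm_num) hj24
    have := (Nat.odd_mul.mp hodd).2
    rw [hj] at this
    rcases odd_dvd j (by omega) hj24 (Nat.odd_iff.mp (Nat.odd_mul.mp this).2) with e | e <;> omega
  rcases hk21 with e | e
  · exact CfsgLib.SmallOrders.card_ne_1512 (G := G) (by omega)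
  · have h4200 : Nat.card G = 4200 := by omega
    have := CfsgLib.SmallOrders.mem_mid hG (by omega) (by omega)
    rw [h4200] at this
    exact absurd this (by decide +kernel)

end

end CfsgLib.InvTimesAlt
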