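/-
Simple groups in which the centraliser of every involution is elementary abelian.
-/
import Cfsg.Agent.Lib.CAEven.CT

set_option autoImplicit false
set_option linter.unusedSectionVars false
set_option maxHeartbeats 600000

namespace CfsgLib.InvTimesAlt

open Subgroup Cfsg
open CfsgLib

universe u
variable {G : Type u} [Group G] [Finite G] [IsSimpleGroup G]

/-- Recognition of PSL(2, 2^f) from a Sylow subgroup with elementary abelian involution centralisers. -/
theorem psl_of_hyp {T : Sylow 2 G} (hT : CAGroup.Hyp T) :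
    ∃ (F : Type) (_ : Field F) (_ : Fintype F), Fintype.card F = Nat.card (T : Subgroup G) ∧
      Nonempty (G ≃* Matrix.ProjectiveSpecialLinearGroup (Fin 2) F) := by
  classical
  haveI : Fact (Nat.Prime 2) := ⟨Nat.prime_two⟩
  obtain ⟨f, hf⟩ := IsPGroup.iff_card.mp T.2
  have hf2 : 2 ≤ f := by
    have h4 := CAGroup.card_T hT
    rw [hf] at h4
    exact (Nat.pow_le_pow_iff_right (by norm_num : 1 < 2)).mp (by simpa using h4)
  set H := normalizer ((T : Subgroup G) : Set G)
  letI := Fintype.ofFinite (G ⧸ H)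
  have hcard : Fintype.card (G ⧸ H) = 2 ^ f + 1 := by
    rw [← Nat.card_eq_fintype_card, CAGroup.card_coset hT, hf]
  have hbig : 3 ≤ Fintype.card (G ⧸ H) := by
    have : 4 ≤ 2 ^ f := le_trans (by norm_num) (Nat.pow_le_pow_right (by norm_num) hf2)
    omega
  let φ := MulAction.toPermHom G (G ⧸ H)
  have hinj : Function.Injective φ := by
    rw [injective_iff_map_eq_one]
    intro g hg
    obtain ⟨e⟩ : Nonempty (Fin 3 ↪ G ⧸ H) := Function.Embedding.nonempty_of_card_le (by simpa using hbig)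
    have hfix : ∀ x : G ⧸ H, g • x = x := fun x => DFunLike.congr_fun hg x
    exact CAGroup.three_fixed hT (e.injective.ne (by decide : (0 : Fin 3) ≠ 1))
      (e.injective.ne (by decide : (0 : Fin 3) ≠ 2)) (e.injective.ne (by decide : (1 : Fin 3) ≠ 2))
      (hfix _) (hfix _) (hfix _)
  have h3 : MulAction.IsMultiplyPretransitive φ.range (G ⧸ H) 3 := by
    refine ⟨fun x y => ?_⟩
    obtain ⟨g, g0, g1, g2⟩ := CAGroup.triply_transitive hT
      (x.injective.ne (by decide : (0 : Fin 3) ≠ 1)) (x.injective.ne (by decide : (0 : Fin 3) ≠ 2))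
      (x.injective.ne (by decide : (1 : Fin 3) ≠ 2)) (y.injective.ne (by decide : (0 : Fin 3) ≠ 1))
      (y.injective.ne (by decide : (0 : Fin 3) ≠ 2)) (y.injective.ne (by decide : (1 : Fin 3) ≠ 2))
    refine ⟨⟨φ g, g, rfl⟩, Function.Embedding.ext fun i => ?_⟩
    show g • x i = y i
    fin_cases i
    · exact g0
    · exact g1
    · exact g2
  have hsharp : ∀ x : Fin 3 ↪ G ⧸ H, MulAction.stabilizer φ.range x = ⊥ := by
    intro x
    rw [Subgroup.eq_bot_iff_forall]
    rintro ⟨_, g, rfl⟩ hg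
    rw [MulAction.mem_stabilizer_iff] at hg
    have hfix : ∀ i, g • x i = x i := fun i => DFunLike.congr_fun hg i
    have h1 := CAGroup.three_fixed hT (x.injective.ne (by decide : (0 : Fin 3) ≠ 1))
      (x.injective.ne (by decide : (0 : Fin 3) ≠ 2)) (x.injective.ne (by decide : (1 : Fin 3) ≠ 2))
      (hfix 0) (hfix 1) (hfix 2)
    exact Subtype.ext (by show φ g = 1; rw [h1, map_one])
  obtain ⟨F, iF, iFt, hF, ⟨e⟩⟩ := Cfsg.Agent.S0727.result (by omega : 1 ≤ f) hcard φ.range h3 hsharp
  refine ⟨F, iF, iFt, by rw [hf, hF], ?_⟩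
  haveI : CharP F 2 := by
    obtain ⟨p, hp⟩ := CharP.exists F
    haveI := hp
    obtain ⟨k, hpp, hk⟩ := FiniteField.card F p
    rw [hF] at hk
    have h2 : (2 : ℕ) ∣ p ^ (k : ℕ) := hk ▸ dvd_pow_self 2 (by omega)
    rw [(Nat.prime_dvd_prime_iff_eq Nat.prime_two hpp).mp (Nat.prime_two.dvd_of_dvd_pow h2)]
    exact hp
  haveI : Finite (Matrix.ProjGenLinGroup (Fin 2) F) := Finite.of_surjective _ Matrix.ProjGenLinGroup.mk_surjective
  have hbij : Function.Bijective (Matrix.SpecialLinearGroup.toPGL (n := Fin 2) (R := F)) := by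
    rw [Nat.bijective_iff_injective_and_card]
    refine ⟨(MonoidHom.ker_eq_bot_iff _).mp ?_, (Cfsg.Agent.S0265.result 2).symm⟩
    rw [Matrix.SpecialLinearGroup.toPGL_ker, CfsgLib.PrimeGraphExt.center_eq_bot]
  exact ⟨(MonoidHom.ofInjective hinj).trans (e.trans
    ((MulEquiv.ofBijective _ hbij).symm.trans CfsgLib.PrimeGraphExt.pslEquiv.symm))⟩

end CfsgLib.InvTimesAlt
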