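/-
An involution of an alternating group of degree at least six is a product of commutators of its centraliser.
-/
import Mathlib.GroupTheory.SpecificGroups.Alternating
import Mathlib.GroupTheory.Commutator.Basic

set_option autoImplicit false

namespace CfsgLib.InvTimesAlt

open Equiv
open scoped commutatorElement

variable {α : Type*} [Fintype α] [DecidableEq α]

/-- Two disjoint pairs of `ι` give a commutator of its centraliser. -/
theorem pair_mem (h6 : 6 ≤ Fintype.card α) (ι : alternatingGroup α) (hι : ι * ι = 1) {a c : α}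
    (ha : (ι : Perm α) a ≠ a) (hc : (ι : Perm α) c ≠ c) (hca : c ≠ a) (hcb : c ≠ (ι : Perm α) a) :
    ∃ z : alternatingGroup α, (z : Perm α) = swap a ((ι : Perm α) a) * swap c ((ι : Perm α) c) ∧
      z ∈ ⁅Subgroup.centralizer ({ι} : Set (alternatingGroup α)), Subgroup.centralizer ({ι} : Set (alternatingGroup α))⁆ := by
  classical
  set σ : Perm α := (ι : Perm α) with hσ
  have hσσ : ∀ x, σ (σ x) = x := fun x => by
    have := congrArg Subtype.val hι
    exact DFunLike.congr_fun this x
  have hinj := σ.injective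
  set b := σ a with hb
  set d := σ c with hd
  have hba : b ≠ a := ha
  have hdc : d ≠ c := hc
  have hda : d ≠ a := fun e => hcb (by rw [hb, ← e, hd, hσσ])
  have hdb : d ≠ b := fun e => hca (hinj e)
  -- a transposition apart from the two pairs, commuting with the involution
  obtain ⟨e, f, hef, heT, hfT, hcomm⟩ : ∃ e f : α, e ≠ f ∧ e ∉ ({a, b, c, d} : Finset α) ∧
      f ∉ ({a, b, c, d} : Finset α) ∧ σ * swap e f = swap e f * σ := by
    have hσT : ∀ x, x ∈ ({a, b, c, d} : Finset α) → σ x ∈ ({a, b, c, d} : Finset α) := by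
      intro x hx
      simp only [Finset.mem_insert, Finset.mem_singleton] at hx ⊢
      rcases hx with rfl | rfl | rfl | rfl
      · exact Or.inr (Or.inl hb.symm)
      · exact Or.inl (by rw [hb, hσσ])
      · exact Or.inr (Or.inr (Or.inr hd.symm))
      · exact Or.inr (Or.inr (Or.inl (by rw [hd, hσσ])))
    by_cases h : ∃ e, e ∉ ({a, b, c, d} : Finset α) ∧ σ e ≠ e
    · obtain ⟨e, he, hee⟩ := h
      refine ⟨e, σ e, hee.symm, he, fun hf => he (by simpa [hσσ] using hσT _ hf), ?_⟩
      rw [mul_swap_eq_swap_mul, hσσ, swap_comm]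
    · push Not at h
      have hcard : 1 < ({a, b, c, d} : Finset α)ᶜ.card := by
        rw [Finset.card_compl]
        have := Finset.card_le_four (a := a) (b := b) (c := c) (d := d)
        omega
      obtain ⟨e, he, f, hf, hef⟩ := Finset.one_lt_card.mp hcard
      rw [Finset.mem_compl] at he hf
      exact ⟨e, f, hef, he, hf, by rw [mul_swap_eq_swap_mul, h e he, h f hf]⟩
  simp only [Finset.mem_insert, Finset.mem_singleton, not_or] at heT hfT
  have hvalX : Perm.sign (swap a c * swap b d) = 1 := by
    rw [map_mul, Perm.sign_swap hca.symm, Perm.sign_swap hdb.symm]; rfl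
  have hvalY : Perm.sign (swap a b * swap e f) = 1 := by
    rw [map_mul, Perm.sign_swap hba.symm, Perm.sign_swap hef]; rfl
  let x : alternatingGroup α := ⟨swap a c * swap b d, Perm.mem_alternatingGroup.mpr hvalX⟩
  let y : alternatingGroup α := ⟨swap a b * swap e f, Perm.mem_alternatingGroup.mpr hvalY⟩
  have hdisj : Commute (swap b d) (swap a c) := by
    show swap b d * swap a c = swap a c * swap b d
    rw [mul_swap_eq_swap_mul, swap_apply_of_ne_of_ne hba.symm hda.symm, swap_apply_of_ne_of_ne hcb hdc.symm]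
  have hxC : x ∈ Subgroup.centralizer ({ι} : Set (alternatingGroup α)) := by
    refine Subgroup.mem_centralizer_singleton_iff.mpr (Subtype.ext ?_)
    show swap a c * swap b d * σ = σ * (swap a c * swap b d)
    rw [← mul_assoc σ, mul_swap_eq_swap_mul σ a c, mul_assoc (swap (σ a) (σ c)), mul_swap_eq_swap_mul σ b d,
      ← mul_assoc]
    congr 1
    rw [← hb, ← hd, show σ b = a by rw [hb, hσσ], show σ d = c by rw [hd, hσσ]]
    exact (hdisj.eq).symm
  have hyC : y ∈ Subgroup.centralizer ({ι} : Set (alternatingGroup α)) := by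
    refine Subgroup.mem_centralizer_singleton_iff.mpr (Subtype.ext ?_)
    show swap a b * swap e f * σ = σ * (swap a b * swap e f)
    rw [mul_assoc, ← hcomm, ← mul_assoc, ← mul_assoc, mul_swap_eq_swap_mul σ a b, show σ b = a by rw [hb, hσσ],
      ← hb, swap_comm b a]
  refine ⟨⁅x, y⁆, ?_, Subgroup.commutator_mem_commutator hxC hyC⟩
  show (swap a c * swap b d) * (swap a b * swap e f) * (swap a c * swap b d)⁻¹ * (swap a b * swap e f)⁻¹ = _
  have hxa : (swap a c * swap b d) a = c := by
    rw [Perm.mul_apply, swap_apply_of_ne_of_ne hba.symm hda.symm, swap_apply_left]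
  have hxb : (swap a c * swap b d) b = d := by
    rw [Perm.mul_apply, swap_apply_left, swap_apply_of_ne_of_ne hda hdc]
  have hxef : ∀ z, z ≠ a → z ≠ b → z ≠ c → z ≠ d → (swap a c * swap b d) z = z := fun z h1 h2 h3 h4 => by
    rw [Perm.mul_apply, swap_apply_of_ne_of_ne h2 h4, swap_apply_of_ne_of_ne h1 h3]
  rw [show (swap a c * swap b d) * (swap a b * swap e f) =
      swap c d * swap e f * (swap a c * swap b d) by
    rw [← mul_assoc _ (swap a b), mul_swap_eq_swap_mul (swap a c * swap b d) a b, hxa, hxb,
      mul_assoc (swap c d), mul_swap_eq_swap_mul (swap a c * swap b d) e f,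
      hxef e heT.1 heT.2.1 heT.2.2.1 heT.2.2.2, hxef f hfT.1 hfT.2.1 hfT.2.2.1 hfT.2.2.2, ← mul_assoc],
    mul_inv_cancel_right, mul_inv_rev, swap_inv, swap_inv, ← mul_assoc, mul_assoc (swap c d), swap_mul_self, mul_one]
  rw [mul_swap_eq_swap_mul, swap_apply_of_ne_of_ne hca.symm hda.symm, swap_apply_of_ne_of_ne hcb.symm hdb.symm]

theorem mem_of_pairs (h6 : 6 ≤ Fintype.card α) (ι : alternatingGroup α) (hι : ι * ι = 1) :
    ∀ (n : ℕ) (w : alternatingGroup α), (w : Perm α).support.card = n →
      (∀ x, (w : Perm α) x = x ∨ (w : Perm α) x = (ι : Perm α) x) →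
      w ∈ ⁅Subgroup.centralizer ({ι} : Set (alternatingGroup α)), Subgroup.centralizer ({ι} : Set (alternatingGroup α))⁆ := by
  classical
  intro n
  induction n using Nat.strong_induction_on with
  | _ n ih =>
    intro w hn hw
    by_cases hw1 : w = 1
    · subst hw1; exact one_mem _
    set σ : Perm α := (ι : Perm α) with hσ
    set τ : Perm α := (w : Perm α) with hτ
    have hσσ : ∀ x, σ (σ x) = x := fun x => DFunLike.congr_fun (congrArg Subtype.val hι) x
    obtain ⟨a, ha⟩ : ∃ a, τ a ≠ a := by
      by_contra h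
      push Not at h
      exact hw1 (Subtype.ext (Equiv.ext h))
    have hτa : τ a = σ a := (hw a).resolve_left ha
    have hσa : σ a ≠ a := hτa ▸ ha
    have hτb : τ (σ a) = a := by
      rcases hw (σ a) with e | e
      · exact absurd (τ.injective (e.trans hτa.symm)) hσa
      · rw [e, hσσ]
    obtain ⟨c, hc, hca, hcb⟩ : ∃ c, τ c ≠ c ∧ c ≠ a ∧ c ≠ σ a := by
      by_contra h
      push Not at h
      have e : τ = swap a (σ a) := by
        refine Equiv.ext fun x => ?_
        rcases eq_or_ne x a with rfl | h1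
        · rw [swap_apply_left, hτa]
        rcases eq_or_ne x (σ a) with rfl | h2
        · rw [swap_apply_right, hτb]
        rw [swap_apply_of_ne_of_ne h1 h2]
        by_contra h3
        exact h2 (h x h3 h1)
      have hs := Perm.mem_alternatingGroup.mp w.2
      rw [← hτ, e, Perm.sign_swap hσa.symm] at hs
      exact absurd hs (by decide)
    have hτc : τ c = σ c := (hw c).resolve_left hc
    have hσc : σ c ≠ c := hτc ▸ hc
    have hτd : τ (σ c) = c := by
      rcases hw (σ c) with e | e
      · exact absurd (τ.injective (e.trans hτc.symm)) hσc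
      · rw [e, hσσ]
    obtain ⟨z, hz, hzC⟩ := pair_mem h6 ι hι hσa hσc hca hcb
    have hdv : σ c ≠ a ∧ σ c ≠ σ a := ⟨fun e => hcb (by rw [← e, hσσ]), fun e => hca (σ.injective e)⟩
    have hfix : ∀ x, (z : Perm α) x = x ∧ x ≠ a ∧ x ≠ σ a ∧ x ≠ c ∧ x ≠ σ c ∨
        (x = a ∨ x = σ a ∨ x = c ∨ x = σ c) := by
      intro x
      by_cases hx : x = a ∨ x = σ a ∨ x = c ∨ x = σ c
      · exact Or.inr hx
      · push Not at hx
        refine Or.inl ⟨?_, hx⟩
        rw [hz, Perm.mul_apply, ← hσ, swap_apply_of_ne_of_ne hx.2.2.1 hx.2.2.2,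
          swap_apply_of_ne_of_ne hx.1 hx.2.1]
    have hkill : ∀ x, x = a ∨ x = σ a ∨ x = c ∨ x = σ c → τ ((z : Perm α) x) = x := by
      intro x hx
      rw [hz, Perm.mul_apply, ← hσ]
      rcases hx with rfl | rfl | rfl | rfl
      · rw [swap_apply_of_ne_of_ne hca.symm hdv.1.symm, swap_apply_left, hτb]
      · rw [swap_apply_of_ne_of_ne hcb.symm hdv.2.symm, swap_apply_right, hτa]
      · rw [swap_apply_left, swap_apply_of_ne_of_ne hdv.1 hdv.2, hτd]
      · rw [swap_apply_right, swap_apply_of_ne_of_ne hca hcb, hτc]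
    have hw' : ∀ x, ((w * z : alternatingGroup α) : Perm α) x = x ∨
        ((w * z : alternatingGroup α) : Perm α) x = σ x := by
      intro x
      rw [Subgroup.coe_mul, Perm.mul_apply]
      rcases hfix x with ⟨e, -⟩ | hx
      · rw [e]; exact hw x
      · exact Or.inl (hkill x hx)
    have hlt : ((w * z : alternatingGroup α) : Perm α).support.card < n := by
      rw [← hn]
      refine Finset.card_lt_card ⟨fun x hx => ?_, fun hsub => ?_⟩
      · rw [Perm.mem_support, Subgroup.coe_mul, Perm.mul_apply] at hx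
        rcases hfix x with ⟨e, -⟩ | h
        · rw [e] at hx; exact Perm.mem_support.mpr hx
        · exact absurd (hkill x h) hx
      · have := hsub (Perm.mem_support.mpr ha)
        rw [Perm.mem_support, Subgroup.coe_mul, Perm.mul_apply] at this
        exact this (hkill a (Or.inl rfl))
    have hmem := ih _ hlt (w * z) rfl hw'
    have := mul_mem hmem (inv_mem hzC)
    rwa [mul_inv_cancel_right] at this

/-- An involution lies in the derived subgroup of its centraliser. -/
theorem mem_derived_centralizer (h6 : 6 ≤ Fintype.card α) (ι : alternatingGroup α) (hι : ι * ι = 1) :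
    ι ∈ ⁅Subgroup.centralizer ({ι} : Set (alternatingGroup α)), Subgroup.centralizer ({ι} : Set (alternatingGroup α))⁆ :=
  mem_of_pairs h6 ι hι _ ι rfl fun _ => Or.inr rfl

end CfsgLib.InvTimesAlt
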