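/-
A 2-central involution whose centraliser is the product of itself with an alternating group: transfer step.
-/
import Cfsg.Prelude.Def_TwoFusion
import Cfsg.Prelude.Def_SporadicB
import Cfsg.Agent.Lib.InvTimesAlt.Derived
import Mathlib.GroupTheory.Sylow
import Mathlib.GroupTheory.Coset.Card

set_option autoImplicit false
set_option linter.unusedSectionVars false

namespace CfsgLib.InvTimesAlt

open Subgroup
open scoped commutatorElement

universe u
variable {G : Type u} [Group G] [Finite G]

/-- The situation. -/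
structure Times (t : G) (T : Subgroup G) : Prop where
  two : orderOf t = 2
  central : ∃ P : Sylow 2 G, t ∈ (P : Subgroup G) ∧ (P : Subgroup G) ≤ centralizer ({t} : Set G)
  le : T ≤ centralizer ({t} : Set G)
  comm : ∀ τ ∈ T, t * τ = τ * t
  notMem : t ∉ T
  split : ∀ c ∈ centralizer ({t} : Set G), c ∈ T ∨ t * c ∈ T

variable {t : G} {T : Subgroup G}

theorem times_of (ht : Cfsg.IsTwoCentralInvolution t)
    (hd : Cfsg.IsInternalDirectProduct (zpowers t) T (centralizer ({t} : Set G))) : Times t T := by
  obtain ⟨h1, h2, hc, hinf, hsup⟩ := hd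
  obtain ⟨ho, P, hP, hPc⟩ := ht
  have ht1 : t ≠ 1 := fun e => by rw [e, orderOf_one] at ho; omega
  have htt : t * t = 1 := by rw [← pow_two, ← ho, pow_orderOf_eq_one]
  have hinv : t⁻¹ = t := inv_eq_of_mul_eq_one_right htt
  have hcomm : ∀ τ ∈ T, t * τ = τ * t := fun τ hτ => hc t (mem_zpowers t) τ hτ
  refine ⟨ho, ⟨P, hP, fun x hx => mem_centralizer_singleton_iff.mpr (hPc x hx)⟩, h2, hcomm,
    fun h => ht1 ((eq_bot_iff_forall _).mp hinf t (mem_inf.mpr ⟨mem_zpowers t, h⟩)), fun c hcC => ?_⟩
  -- the union of `T` and `t T` is a subgroup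
  let U : Subgroup G :=
    { carrier := {c | c ∈ T ∨ t * c ∈ T}
      one_mem' := Or.inl (one_mem _)
      mul_mem' := by
        rintro a b (ha | ha) (hb | hb)
        · exact Or.inl (mul_mem ha hb)
        · right
          have := mul_mem ha hb
          rwa [← mul_assoc, ← hcomm a ha, mul_assoc] at this
        · right
          rw [← mul_assoc]; exact mul_mem ha hb
        · left
          have := mul_mem ha hb
          rwa [← mul_assoc, ← hcomm _ ha, ← mul_assoc, htt, one_mul] at this
      inv_mem' := by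
        rintro a (ha | ha)
        · exact Or.inl (inv_mem ha)
        · right
          have h' := inv_mem ha
          rw [mul_inv_rev, hinv] at h'
          have h'' := hcomm _ h'
          rw [mul_assoc _ t t, htt, mul_one] at h''
          rw [← h'', ← mul_assoc, htt, one_mul]
          exact h' }
  have : zpowers t ⊔ T ≤ U :=
    sup_le (zpowers_le.mpr (Or.inr (by rw [htt]; exact one_mem _))) fun τ hτ => Or.inl hτ
  exact this (hsup ▸ hcC)

theorem Times.sq (h : Times t T) : t * t = 1 := by rw [← pow_two, ← h.two, pow_orderOf_eq_one]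

theorem Times.ne (h : Times t T) : t ≠ 1 := fun e => by
  have := h.two
  rw [e, orderOf_one] at this
  omega

theorem Times.self_mem (h : Times t T) : t ∈ centralizer ({t} : Set G) := mem_centralizer_singleton_iff.mpr rfl

theorem Times.rel (h : Times t T) : T.relIndex (centralizer ({t} : Set G)) = 2 := by
  rw [Subgroup.relIndex, index_eq_two_iff]
  refine ⟨⟨t, h.self_mem⟩, fun ⟨b, hb⟩ => ?_⟩
  rw [mem_subgroupOf, mem_subgroupOf]
  show Xor' (b * t ∈ T) (b ∈ T)
  rcases h.split b hb with hbT | hbT
  · exact Or.inr ⟨hbT, fun q => h.notMem (by simpa using mul_mem (inv_mem hbT) q)⟩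
  · rw [← mem_centralizer_singleton_iff.mp hb] at hbT
    refine Or.inl ⟨hbT, fun q => h.notMem ?_⟩
    simpa using mul_mem (inv_mem q) hbT

theorem Times.card_centralizer (h : Times t T) :
    Nat.card (centralizer ({t} : Set G)) = 2 * Nat.card T := by
  rw [← h.rel, Subgroup.relIndex, ← card_mul_index (T.subgroupOf (centralizer ({t} : Set G))),
    Nat.card_congr (subgroupOfEquivOfLe h.le).toEquiv, mul_comm]

theorem Times.odd_index (h : Times t T) : Odd (centralizer ({t} : Set G)).index := by
  haveI : Fact (Nat.Prime 2) := ⟨Nat.prime_two⟩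
  obtain ⟨P, -, hP⟩ := h.central
  rw [← Nat.not_even_iff_odd, even_iff_two_dvd]
  exact fun q => P.not_dvd_index (q.trans (index_dvd_of_le hP))

/-- Commutators of the centraliser lie in `T`. -/
theorem Times.commutator_le (h : Times t T) :
    ⁅centralizer ({t} : Set G), centralizer ({t} : Set G)⁆ ≤ T := by
  haveI : (T.subgroupOf (centralizer ({t} : Set G))).Normal := normal_of_index_eq_two h.rel
  rw [Subgroup.commutator_le]
  intro a ha b hb
  have hm := mul_self_mem_of_index_two h.rel
  have key : ∀ x ∈ centralizer ({t} : Set G), ∃ τ ∈ T, ∀ y ∈ centralizer ({t} : Set G),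
      x * y * x⁻¹ = τ * y * τ⁻¹ := by
    intro x hx
    rcases h.split x hx with hT | hT
    · exact ⟨x, hT, fun _ _ => rfl⟩
    · refine ⟨t * x, hT, fun y hy => ?_⟩
      have hxy : x * y * x⁻¹ * t = t * (x * y * x⁻¹) :=
        mem_centralizer_singleton_iff.mp (mul_mem (mul_mem hx hy) (inv_mem hx))
      calc x * y * x⁻¹ = x * y * x⁻¹ * (t * t⁻¹) := by group
        _ = t * (x * y * x⁻¹) * t⁻¹ := by rw [← mul_assoc, hxy]
        _ = _ := by group
  obtain ⟨α, hα, ea⟩ := key a ha
  obtain ⟨β, hβ, eb⟩ := key b hb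
  have e1 : ⁅a, b⁆ = ⁅α, b⁆ := by rw [commutatorElement_def, commutatorElement_def, ea b hb]
  have e2 : ⁅α, b⁆ = ⁅α, β⁆ := by
    have : b * α⁻¹ * b⁻¹ = β * α⁻¹ * β⁻¹ := eb _ (inv_mem (h.le hα))
    rw [commutatorElement_def, commutatorElement_def, mul_assoc α b, mul_assoc α (b * α⁻¹), this]
    group
  rw [e1, e2]
  exact mul_mem (mul_mem (mul_mem hα hβ) (inv_mem hα)) (inv_mem hβ)

/-- Thompson transfer. -/
theorem Times.exists_conj (h : Times t T) (h2 : ∀ N : Subgroup G, N.Normal → N.index ≠ 2) :
    ∃ g : G, g⁻¹ * t * g ∈ T := by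
  classical
  by_contra hM
  push Not at hM
  letI : Fintype (G ⧸ T) := Fintype.ofFinite _
  let f : G →* ℤˣ := Equiv.Perm.sign.comp (MulAction.toPermHom G (G ⧸ T))
  have hsq : (MulAction.toPermHom G (G ⧸ T) t) ^ 2 = 1 := by rw [← map_pow, pow_two, h.sq, map_one]
  have hfix : Fintype.card (Function.fixedPoints (MulAction.toPermHom G (G ⧸ T) t)) = 0 := by
    rw [Fintype.card_eq_zero_iff]
    refine ⟨fun ⟨q, hq⟩ => ?_⟩
    induction q using QuotientGroup.induction_on with
    | H g =>
      have h1 : ((t * g : G) : G ⧸ T) = (g : G ⧸ T) := hq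
      have h2 := QuotientGroup.eq.mp h1.symm
      exact hM g (by rwa [mul_assoc])
  have hidx : T.index = 2 * (centralizer ({t} : Set G)).index := by
    rw [← relIndex_mul_index h.le, h.rel]
  have hft : f t = -1 := by
    show Equiv.Perm.sign _ = _
    rw [Equiv.Perm.sign_of_pow_two_eq_one hsq, hfix, Nat.sub_zero, ← Nat.card_eq_fintype_card,
      ← Subgroup.index_eq_card, hidx, Nat.mul_div_cancel_left _ two_pos, h.odd_index.neg_one_pow]
  refine h2 f.ker inferInstance ?_
  rw [Subgroup.index_ker]
  have htop : f.range = ⊤ := by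
    refine eq_top_iff.mpr fun u _ => ?_
    rcases Int.units_eq_one_or u with rfl | rfl
    exacts [one_mem _, ⟨t, hft⟩]
  rw [htop, Subgroup.card_top, Nat.card_eq_fintype_card]
  rfl

/-- The degree is four or five. -/
theorem Times.degree (h : Times t T) (h2 : ∀ N : Subgroup G, N.Normal → N.index ≠ 2) {m : ℕ}
    (e : T ≃* alternatingGroup (Fin m)) : m = 4 ∨ m = 5 := by
  obtain ⟨g, hg⟩ := h.exists_conj h2
  set ι := e ⟨g⁻¹ * t * g, hg⟩ with hι
  have hιι : ι * ι = 1 := by
    rw [hι, ← map_mul]
    refine (map_eq_one_iff _ e.injective).mpr (Subtype.ext ?_)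
    show g⁻¹ * t * g * (g⁻¹ * t * g) = 1
    calc g⁻¹ * t * g * (g⁻¹ * t * g) = g⁻¹ * (t * t) * g := by group
      _ = 1 := by rw [h.sq]; group
  have hι1 : ι ≠ 1 := fun q => by
    have := congrArg Subtype.val ((map_eq_one_iff _ e.injective).mp (hι ▸ q))
    refine h.ne ?_
    calc t = g * (g⁻¹ * t * g) * g⁻¹ := by group
      _ = 1 := by rw [show g⁻¹ * t * g = 1 from this]; group
  rcases Nat.lt_or_ge m 6 with hm | hm
  · have small : ∀ k < 4, ∀ a : alternatingGroup (Fin k), a * a = 1 → a = 1 := by
      intro k hk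
      interval_cases k <;> decide +kernel
    rcases Nat.lt_or_ge m 4 with h4 | h4
    · exact absurd (small m h4 ι hιι) hι1
    · omega
  · exfalso
    let f : alternatingGroup (Fin m) →* G := (MulAut.conj g).toMonoidHom.comp (T.subtype.comp e.symm.toMonoidHom)
    have hf : f ι = t := by
      show g * (e.symm ι : G) * g⁻¹ = t
      rw [hι, e.symm_apply_apply]
      group
    have hle : (centralizer ({ι} : Set (alternatingGroup (Fin m)))).map f ≤ centralizer ({t} : Set G) := by
      rintro _ ⟨a, ha, rfl⟩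
      rw [mem_centralizer_singleton_iff, ← hf, ← map_mul, ← map_mul, mem_centralizer_singleton_iff.mp ha]
    have hmem := mem_map_of_mem f (mem_derived_centralizer (by rw [Fintype.card_fin]; exact hm) ι hιι)
    rw [Subgroup.map_commutator, hf] at hmem
    exact h.notMem (h.commutator_le (commutator_mono hle hle hmem))

end CfsgLib.InvTimesAlt
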