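/-
Finite facts on the alternating groups of degree four and five.
-/
import Cfsg.Agent.Lib.JankoOne.KFacts

set_option autoImplicit false
set_option maxRecDepth 20000
set_option maxHeartbeats 1000000

namespace CfsgLib.InvTimesAlt

open CfsgLib.JankoOne

/-- Six test words in an element and its conjugates by a four group. -/
def words {A : Type*} [Monoid A] (o v w : A) : List A :=
  let p := v * o * v
  let q := w * o * w
  let r := v * w * o * (v * w)
  [o * o * p, o * o * q, o * o * r, o * p * o * q, o * p * o * r, o * q * o * r]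

/-- The facts needed for the second factor. -/
structure Facts (A : Type*) [Group A] : Prop where
  two : ∀ a : A, a ^ 8 = 1 → a * a = 1
  conj : ∀ a b : A, a * a = 1 → a ≠ 1 → b * b = 1 → b ≠ 1 → ∃ g : A, g * a * g⁻¹ = b
  word : ∀ o v w : A, o ^ 15 = 1 → o ≠ 1 → v * v = 1 → v ≠ 1 → w * w = 1 → w ≠ 1 → v ≠ w → v * w = w * v →
    ∃ x ∈ words o v w, x ^ 15 ≠ 1

theorem facts_four : Facts (alternatingGroup (Fin 4)) where
  two := by decide +kernel
  conj := by decide +kernel
  word := by decide +kernel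

/-- Test words on codes. -/
def wordsC (o v w : ℕ) : List ℕ :=
  let p := mulC (mulC v o) v
  let q := mulC (mulC w o) w
  let r := mulC (mulC (mulC v w) o) (mulC v w)
  [mulC (mulC o o) p, mulC (mulC o o) q, mulC (mulC o o) r, mulC (mulC (mulC o p) o) q,
    mulC (mulC (mulC o p) o) r, mulC (mulC (mulC o q) o) r]

def altList : List ℕ := kList.filter (fun n => n < 32768)

theorem enc_alt (a : alternatingGroup (Fin 5)) : enc ((1, a) : K) ∈ altList := by
  have : ∀ a : alternatingGroup (Fin 5), enc ((1, a) : K) < 32768 := by decide +kernel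
  exact List.mem_filter.mpr ⟨enc_mem _, by simpa using this a⟩

theorem wordC_all : ∀ o ∈ altList, powC o 15 = oneC → o ≠ oneC → ∀ v ∈ altList, mulC v v = oneC → v ≠ oneC →
    ∀ w ∈ altList, mulC w w = oneC → w ≠ oneC → v ≠ w → mulC v w = mulC w v →
      ∃ x ∈ wordsC o v w, powC x 15 ≠ oneC := by decide +kernel

theorem twoC_all : ∀ o ∈ altList, powC o 8 = oneC → mulC o o = oneC := by decide +kernel

theorem conjC_all : ∀ a ∈ altList, mulC a a = oneC → a ≠ oneC → ∀ b ∈ altList, mulC b b = oneC → b ≠ oneC →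
    ∃ g ∈ altList, mulC g a = mulC b g := by decide +kernel

theorem exists_alt : ∀ n ∈ altList, ∃ a : alternatingGroup (Fin 5), enc ((1, a) : K) = n := by
  intro n hn
  obtain ⟨hk, hlt⟩ := List.mem_filter.mp hn
  obtain ⟨⟨z, a⟩, rfl⟩ := exists_enc hk
  refine ⟨a, ?_⟩
  have hz : z = 1 := by
    have h := (digits ((z, a) : K)).2
    simp only [decide_eq_true_eq] at hlt
    rw [Nat.div_eq_of_lt hlt] at h
    exact Multiplicative.toAdd.injective (ZMod.val_injective _ h.symm)
  rw [hz]

theorem facts_five : Facts (alternatingGroup (Fin 5)) := by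
  let ι : alternatingGroup (Fin 5) →* K := MonoidHom.inr _ _
  have he : ∀ a b, a = b ↔ enc (ι a) = enc (ι b) := fun a b =>
    ⟨fun e => e ▸ rfl, fun e => congrArg Prod.snd (enc_injective e)⟩
  have h1 : enc (ι 1) = oneC := by rw [map_one, enc_one]
  refine ⟨fun a h => ?_, fun a b ha ha1 hb hb1 => ?_, fun o v w ho ho1 hv hv1 hw hw1 hvw hc => ?_⟩
  · rw [he, map_mul, enc_mul, h1]
    refine twoC_all _ (enc_alt a) ?_
    rw [← enc_pow]
    show enc (ι a ^ 8) = oneC
    rw [← map_pow, h, h1]
  · obtain ⟨g, hg, e⟩ := conjC_all (enc (ι a)) (enc_alt a) (by rw [← enc_mul, ← map_mul, ha, h1])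
      (fun e => ha1 ((he _ _).mpr (e.trans h1.symm))) (enc (ι b)) (enc_alt b) (by rw [← enc_mul, ← map_mul, hb, h1])
      (fun e => hb1 ((he _ _).mpr (e.trans h1.symm)))
    obtain ⟨g', rfl⟩ := exists_alt g hg
    refine ⟨g', ?_⟩
    rw [mul_inv_eq_iff_eq_mul, he, map_mul, map_mul, enc_mul, enc_mul]
    exact e
  · obtain ⟨x, hx, hne⟩ := wordC_all (enc (ι o)) (enc_alt o)
      (by rw [← enc_pow, ← map_pow, ho, h1]) (fun e => ho1 ((he _ _).mpr (e.trans h1.symm)))
      (enc (ι v)) (enc_alt v) (by rw [← enc_mul, ← map_mul, hv, h1]) (fun e => hv1 ((he _ _).mpr (e.trans h1.symm)))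
      (enc (ι w)) (enc_alt w) (by rw [← enc_mul, ← map_mul, hw, h1]) (fun e => hw1 ((he _ _).mpr (e.trans h1.symm)))
      (fun e => hvw ((he _ _).mpr e)) (by rw [← enc_mul, ← map_mul, hc, map_mul, enc_mul])
    have hl : wordsC (enc (ι o)) (enc (ι v)) (enc (ι w)) = (words o v w).map (fun y => enc (ι y)) := by
      simp only [wordsC, words, List.map_cons, List.map_nil, map_mul, enc_mul]
    rw [hl, List.mem_map] at hx
    obtain ⟨y, hy, rfl⟩ := hx
    exact ⟨y, hy, fun e => hne (by rw [← enc_pow, ← map_pow, e, h1])⟩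

end CfsgLib.InvTimesAlt
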