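/-
Consequences in degrees four and five.
-/
import Cfsg.Agent.Lib.InvTimesAlt.Basic
import Cfsg.Agent.Lib.InvTimesAlt.Tables
import Cfsg.Agent.Lib.CoprimeGen
import Cfsg.Agent.Lib.TransferApps

set_option autoImplicit false
set_option linter.unusedSectionVars false
set_option maxHeartbeats 800000

namespace CfsgLib.InvTimesAlt

open Subgroup

universe u
variable {G : Type u} [Group G] [Finite G]

theorem Facts.of_equiv {A B : Type*} [Group A] [Group B] (f : Facts A) (e : B ≃* A) : Facts B where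
  two a h := e.injective (by rw [map_mul, map_one, f.two (e a) (by rw [← map_pow, h, map_one])])
  conj a b ha ha1 hb hb1 := by
    obtain ⟨g, hg⟩ := f.conj (e a) (e b) (by rw [← map_mul, ha, map_one]) (fun q => ha1 (e.map_eq_one_iff.mp q))
      (by rw [← map_mul, hb, map_one]) (fun q => hb1 (e.map_eq_one_iff.mp q))
    refine ⟨e.symm g, e.injective ?_⟩
    rw [map_mul, map_mul, map_inv, e.apply_symm_apply, hg]
  word o v w ho ho1 hv hv1 hw hw1 hvw hc := by
    obtain ⟨x, hx, hne⟩ := f.word (e o) (e v) (e w) (by rw [← map_pow, ho, map_one])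
      (fun q => ho1 (e.map_eq_one_iff.mp q)) (by rw [← map_mul, hv, map_one]) (fun q => hv1 (e.map_eq_one_iff.mp q))
      (by rw [← map_mul, hw, map_one]) (fun q => hw1 (e.map_eq_one_iff.mp q)) (fun q => hvw (e.injective q))
      (by rw [← map_mul, hc, map_mul])
    have hl : words (e o) (e v) (e w) = (words o v w).map e := by
      simp only [words, List.map_cons, List.map_nil, map_mul]
    rw [hl, List.mem_map] at hx
    obtain ⟨y, hy, rfl⟩ := hx
    exact ⟨y, hy, fun q => hne (by rw [← map_pow, q, map_one])⟩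

/-- The situation in degree four or five, with a Sylow subgroup. -/
structure Small (t : G) (T : Subgroup G) (S : Sylow 2 G) : Prop extends Times t T where
  memS : t ∈ (S : Subgroup G)
  leS : (S : Subgroup G) ≤ centralizer ({t} : Set G)
  facts : Facts T
  cardT : Nat.card T = 12 ∨ Nat.card T = 60
  transfer : ∃ g : G, g⁻¹ * t * g ∈ T

variable {t : G} {T : Subgroup G} {S : Sylow 2 G}

theorem Small.card_S (h : Small t T S) : Nat.card (S : Subgroup G) = 8 := by
  haveI : Fact (Nat.Prime 2) := ⟨Nat.prime_two⟩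
  obtain ⟨n, hn⟩ := IsPGroup.iff_card.mp S.2
  have hC := h.card_centralizer
  have h8 : 2 ^ 3 ∣ Nat.card (S : Subgroup G) := by
    refine S.pow_dvd_card_of_pow_dvd_card (Dvd.dvd.trans ?_ (card_subgroup_dvd_card (centralizer ({t} : Set G))))
    rw [hC]
    rcases h.cardT with e | e <;> rw [e] <;> norm_num
  have hle : Nat.card (S : Subgroup G) ∣ 2 * Nat.card T := hC ▸ card_dvd_of_le h.leS
  rw [hn] at h8 hle ⊢
  have hge : 3 ≤ n := (Nat.pow_dvd_pow_iff_le_right (by norm_num)).mp h8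
  by_contra hne
  have h16 : 2 ^ 4 ∣ 2 ^ n := pow_dvd_pow 2 (by by_contra q; exact hne (by rw [show n = 3 by omega]; rfl))
  have := h16.trans hle
  rcases h.cardT with e | e <;> rw [e] at this <;> norm_num at this

theorem Small.sqS (h : Small t T S) {x : G} (hx : x ∈ (S : Subgroup G)) : x * x = 1 := by
  have h8 : x ^ 8 = 1 := by
    have := congrArg Subtype.val (pow_card_eq_one' (x := (⟨x, hx⟩ : (S : Subgroup G))))
    rwa [h.card_S] at this
  have key : ∀ τ (hτ : τ ∈ T), τ ^ 8 = 1 → τ * τ = 1 := fun τ hτ q =>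
    congrArg Subtype.val (h.facts.two ⟨τ, hτ⟩ (Subtype.ext q))
  have hc : Commute t x := (mem_centralizer_singleton_iff.mp (h.leS hx)).symm
  rcases h.split x (h.leS hx) with hT | hT
  · exact key x hT h8
  · have h8' : (t * x) ^ 8 = 1 := by
      rw [hc.mul_pow, h8, mul_one, show (8 : ℕ) = 2 * 4 from rfl, pow_mul, pow_two, h.sq, one_pow]
    have := key _ hT h8'
    rwa [show t * x * (t * x) = t * t * (x * x) by rw [mul_assoc, ← mul_assoc x, ← hc.eq]; group, h.sq,
      one_mul] at this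

theorem Small.commS (h : Small t T S) {x y : G} (hx : x ∈ (S : Subgroup G)) (hy : y ∈ (S : Subgroup G)) :
    x * y = y * x := by
  have h1 := h.sqS (mul_mem hx hy)
  calc x * y = (x * y)⁻¹ := eq_inv_of_mul_eq_one_left h1
    _ = y⁻¹ * x⁻¹ := mul_inv_rev x y
    _ = y * x := by rw [inv_eq_of_mul_eq_one_right (h.sqS hx), inv_eq_of_mul_eq_one_right (h.sqS hy)]

theorem Small.isMulComm (h : Small t T S) : IsMulCommutative (S : Subgroup G) :=
  ⟨⟨fun a b => Subtype.ext (h.commS a.2 b.2)⟩⟩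

theorem Small.card_inf (h : Small t T S) : Nat.card ((S : Subgroup G) ⊓ T : Subgroup G) = 4 := by
  classical
  have e : ((S : Subgroup G) ⊓ T : Subgroup G) × Bool ≃ (S : Subgroup G) :=
    { toFun := fun p => if p.2 then ⟨p.1, (mem_inf.mp p.1.2).1⟩ else ⟨t * p.1, mul_mem h.memS (mem_inf.mp p.1.2).1⟩
      invFun := fun x => if q : (x : G) ∈ T then (⟨x, mem_inf.mpr ⟨x.2, q⟩⟩, true) else
        (⟨t * x, mem_inf.mpr ⟨mul_mem h.memS x.2, (h.split x (h.leS x.2)).resolve_left q⟩⟩, false)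
      left_inv := by
        rintro ⟨⟨p, hp⟩, b⟩
        obtain ⟨hpS, hpT⟩ := mem_inf.mp hp
        cases b
        · have hn : t * p ∉ T := fun q => h.notMem (by simpa using mul_mem q (inv_mem hpT))
          simp [hn, ← mul_assoc, h.sq]
        · simp [hpT]
      right_inv := by
        intro x
        by_cases q : (x : G) ∈ T <;> simp [q, ← mul_assoc, h.sq] }
  have := Nat.card_congr e
  rw [Nat.card_prod, h.card_S, Nat.card_eq_fintype_card (α := Bool), Fintype.card_bool] at this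
  omega

/-- Two generators of the four group in `T`. -/
theorem Small.exists_pair (h : Small t T S) : ∃ v w : G, v ∈ (S : Subgroup G) ∧ v ∈ T ∧ v ≠ 1 ∧
    w ∈ (S : Subgroup G) ∧ w ∈ T ∧ w ≠ 1 ∧ v ≠ w := by
  classical
  letI : Fintype ((S : Subgroup G) ⊓ T : Subgroup G) := Fintype.ofFinite _
  have hc : 1 < (Finset.univ.erase (1 : ((S : Subgroup G) ⊓ T : Subgroup G))).card := by
    rw [Finset.card_erase_of_mem (Finset.mem_univ _), Finset.card_univ, ← Nat.card_eq_fintype_card, h.card_inf]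
    norm_num
  obtain ⟨v, hv, w, hw, hne⟩ := Finset.one_lt_card.mp hc
  exact ⟨v, w, (mem_inf.mp v.2).1, (mem_inf.mp v.2).2, fun q => (Finset.mem_erase.mp hv).1 (Subtype.ext q),
    (mem_inf.mp w.2).1, (mem_inf.mp w.2).2, fun q => (Finset.mem_erase.mp hw).1 (Subtype.ext q),
    fun q => hne (Subtype.ext q)⟩

/-- An element commuting with the Sylow subgroup and of order dividing two lies in it. -/
theorem Small.mem_S (h : Small t T S) {y : G} (hy : y * y = 1) (hc : ∀ x ∈ (S : Subgroup G), x * y = y * x) :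
    y ∈ (S : Subgroup G) := by
  haveI : Fact (Nat.Prime 2) := ⟨Nat.prime_two⟩
  have hn : y ∈ normalizer ((S : Subgroup G) : Set G) := by
    refine mem_normalizer_fintype (S := ((S : Subgroup G) : Set G)) fun x hx => ?_
    rw [← hc x hx, mul_inv_cancel_right]
    exact hx
  have hyp : IsPGroup 2 (zpowers y) := by
    rintro ⟨_, n, rfl⟩
    refine ⟨1, Subtype.ext ?_⟩
    show (y ^ n) ^ 2 ^ 1 = 1
    rw [pow_one, ← zpow_natCast (y ^ n), ← zpow_mul, mul_comm, zpow_mul, zpow_natCast, pow_two, hy, one_zpow]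
  have := S.3 (S.2.to_sup_of_normal_left' hyp (zpowers_le.mpr hn)) le_sup_left
  rw [← this]
  exact le_sup_right (a := (S : Subgroup G)) (mem_zpowers y)

theorem Small.conj_of_mem_T (h : Small t T S) {τ : G} (hτ : τ ∈ T) (h2 : τ * τ = 1) (h1 : τ ≠ 1) :
    ∃ g : G, g * t * g⁻¹ = τ := by
  obtain ⟨g, hg⟩ := h.transfer
  obtain ⟨⟨a, ha⟩, e⟩ := h.facts.conj ⟨g⁻¹ * t * g, hg⟩ ⟨τ, hτ⟩
    (Subtype.ext (by
      show g⁻¹ * t * g * (g⁻¹ * t * g) = 1
      calc g⁻¹ * t * g * (g⁻¹ * t * g) = g⁻¹ * (t * t) * g := by group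
        _ = 1 := by rw [h.sq]; group))
    (fun q => h.ne (by
      have q' : g⁻¹ * t * g = 1 := congrArg Subtype.val q
      calc t = g * (g⁻¹ * t * g) * g⁻¹ := by group
        _ = 1 := by rw [q']; group))
    (Subtype.ext h2) (fun q => h1 (congrArg Subtype.val q))
  refine ⟨a * g⁻¹, ?_⟩
  rw [← show a * (g⁻¹ * t * g) * a⁻¹ = τ from congrArg Subtype.val e]
  group

/-- Some twisted involution of the Sylow subgroup is conjugate to `t`. -/
theorem Small.exists_twisted (h : Small t T S) :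
    ∃ τ, τ ∈ (S : Subgroup G) ∧ τ ∈ T ∧ τ ≠ 1 ∧ ∃ g : G, g * t * g⁻¹ = t * τ := by
  classical
  by_contra hno
  push Not at hno
  haveI : Fact (Nat.Prime 2) := ⟨Nat.prime_two⟩
  set C := centralizer ({t} : Set G) with hCdef
  let X := {y : G // ∃ g : G, g * t * g⁻¹ = y}
  let e : G ⧸ C → X := Quotient.lift (fun g => (⟨g * t * g⁻¹, g, rfl⟩ : X)) fun a b q => Subtype.ext (by
    have q' : a⁻¹ * b ∈ C := QuotientGroup.leftRel_apply.mp q
    rw [hCdef, mem_centralizer_singleton_iff] at q'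
    show a * t * a⁻¹ = b * t * b⁻¹
    calc a * t * a⁻¹ = a * (t * (a⁻¹ * b)) * b⁻¹ := by group
      _ = a * (a⁻¹ * b * t) * b⁻¹ := by rw [q']
      _ = _ := by group)
  have hbij : Function.Bijective e := by
    refine ⟨fun p q => Quotient.inductionOn₂ p q fun a b q => Quotient.sound ?inj, ?surj⟩
    case inj =>
      have q' : a * t * a⁻¹ = b * t * b⁻¹ := congrArg Subtype.val q
      show QuotientGroup.leftRel C a b
      rw [QuotientGroup.leftRel_apply, hCdef, mem_centralizer_singleton_iff]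
      calc a⁻¹ * b * t = a⁻¹ * (b * t * b⁻¹) * b := by group
        _ = a⁻¹ * (a * t * a⁻¹) * b := by rw [q']
        _ = _ := by group
    case surj =>
      rintro ⟨y, g, hg⟩
      exact ⟨QuotientGroup.mk g, Subtype.ext hg⟩
  have hX : Odd (Nat.card X) := by
    rw [← Nat.card_eq_of_bijective e hbij, ← Subgroup.index_eq_card]
    exact h.odd_index
  letI : MulAction (S : Subgroup G) X :=
    { smul := fun s y => ⟨(s : G) * y.1 * (s : G)⁻¹, by
        obtain ⟨g, hg⟩ := y.2
        exact ⟨s * g, by rw [← hg]; group⟩⟩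
      one_smul := fun y => Subtype.ext (by show ((1 : (S : Subgroup G)) : G) * y.1 * _ = y.1; simp)
      mul_smul := fun a b y => Subtype.ext (by
        show ((a * b : (S : Subgroup G)) : G) * y.1 * ((a * b : (S : Subgroup G)) : G)⁻¹ =
          (a : G) * ((b : G) * y.1 * (b : G)⁻¹) * (a : G)⁻¹
        push_cast; group) }
  have hmod := S.2.card_modEq_card_fixedPoints X
  have hsq : ∀ y : X, y.1 * y.1 = 1 ∧ y.1 ≠ 1 := fun y => by
    obtain ⟨g, hg⟩ := y.2
    rw [← hg]
    exact ⟨by rw [conj_mul, h.sq]; group, fun q => h.ne (conj_eq_one_iff.mp q)⟩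
  let ev : MulAction.fixedPoints (S : Subgroup G) X ≃ ((S : Subgroup G) ⊓ T : Subgroup G) :=
    { toFun := fun y => if q : y.1.1 = t then 1 else ⟨y.1.1, by
        have hyS : y.1.1 ∈ (S : Subgroup G) := h.mem_S (hsq y.1).1 fun x hx =>
          mul_inv_eq_iff_eq_mul.mp (congrArg Subtype.val (y.2 ⟨x, hx⟩))
        refine mem_inf.mpr ⟨hyS, (h.split _ (h.leS hyS)).resolve_right fun hT => ?_⟩
        have hne : t * y.1.1 ≠ 1 := fun q' => q (by
          rw [← mul_right_inj (a := t), q', h.sq])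
        obtain ⟨g, hg⟩ := y.1.2
        exact hno _ (mul_mem h.memS hyS) hT hne g (by rw [← mul_assoc, h.sq, one_mul, hg])⟩
      invFun := fun τ => if q : (τ : G) = 1 then ⟨⟨t, 1, by group⟩, fun s => Subtype.ext (by
          show (s : G) * t * (s : G)⁻¹ = t
          rw [mem_centralizer_singleton_iff.mp (h.leS s.2), mul_inv_cancel_right])⟩
        else ⟨⟨τ, h.conj_of_mem_T (mem_inf.mp τ.2).2 (h.sqS (mem_inf.mp τ.2).1) q⟩, fun s => Subtype.ext (by
          show (s : G) * τ * (s : G)⁻¹ = τ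
          rw [h.commS s.2 (mem_inf.mp τ.2).1, mul_inv_cancel_right])⟩
      left_inv := by
        intro y
        by_cases q : y.1.1 = t
        · simp [q]
          exact Subtype.ext (Subtype.ext q.symm)
        · simp [q, (hsq y.1).2]
      right_inv := by
        intro τ
        by_cases q : (τ : G) = 1
        · simp [q]
          exact Subtype.ext q.symm
        · have : (τ : G) ≠ t := fun q' => h.notMem (q' ▸ (mem_inf.mp τ.2).2)
          simp [q, this] }
  rw [Nat.card_congr ev, h.card_inf] at hmod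
  have := Nat.odd_iff.mp hX
  unfold Nat.ModEq at hmod
  omega

/-- All involutions are conjugate. -/
theorem Small.conj_all (h : Small t T S) {y : G} (hy : y * y = 1) (hy1 : y ≠ 1) : ∃ g : G, g * t * g⁻¹ = y := by
  haveI : Fact (Nat.Prime 2) := ⟨Nat.prime_two⟩
  have hp : IsPGroup 2 (zpowers y) := by
    rintro ⟨_, n, rfl⟩
    refine ⟨1, Subtype.ext ?_⟩
    show (y ^ n) ^ 2 ^ 1 = 1
    rw [pow_one, ← zpow_natCast (y ^ n), ← zpow_mul, mul_comm, zpow_mul, zpow_natCast, pow_two, hy, one_zpow]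
  obtain ⟨P, hP⟩ := hp.exists_le_sylow
  obtain ⟨a, ha⟩ := MulAction.exists_smul_eq G P S
  set z := a * y * a⁻¹ with hz
  have hzS : z ∈ (S : Subgroup G) := by
    rw [← ha, Sylow.coe_subgroup_smul]
    exact ⟨y, hP (mem_zpowers y), rfl⟩
  suffices hh : ∃ g : G, g * t * g⁻¹ = z by
    obtain ⟨g, hg⟩ := hh
    refine ⟨a⁻¹ * g, ?_⟩
    calc a⁻¹ * g * t * (a⁻¹ * g)⁻¹ = a⁻¹ * (g * t * g⁻¹) * a := by group
      _ = y := by rw [hg, hz]; group
  have hz1 : z ≠ 1 := by rw [hz, ne_eq, conj_eq_one_iff]; exact hy1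
  rcases h.split z (h.leS hzS) with hT | hT
  · exact h.conj_of_mem_T hT (h.sqS hzS) hz1
  · by_cases hq : t * z = 1
    · exact ⟨1, by rw [one_mul, inv_one, mul_one, ← inv_eq_of_mul_eq_one_right hq, inv_eq_of_mul_eq_one_right h.sq]⟩
    obtain ⟨τ, hτS, hτT, hτ1, g, hg⟩ := h.exists_twisted
    obtain ⟨⟨c, hc⟩, e⟩ := h.facts.conj ⟨τ, hτT⟩ ⟨t * z, hT⟩ (Subtype.ext (h.sqS hτS))
      (fun q => hτ1 (congrArg Subtype.val q)) (Subtype.ext (h.sqS (mul_mem h.memS hzS)))
      (fun q => hq (congrArg Subtype.val q))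
    refine ⟨c * g, ?_⟩
    have e' : c * τ * c⁻¹ = t * z := congrArg Subtype.val e
    calc c * g * t * (c * g)⁻¹ = c * (g * t * g⁻¹) * c⁻¹ := by group
      _ = t * (c * τ * c⁻¹) := by rw [hg, ← mul_assoc c, ← h.comm c hc]; group
      _ = z := by rw [e', ← mul_assoc, h.sq, one_mul]

/-- The normaliser of the Sylow subgroup is transitive on its involutions. -/
theorem Small.trans (h : Small t T S) {i : G} (hi : i ∈ (S : Subgroup G)) (hi1 : i ≠ 1) :
    ∃ n ∈ normalizer ((S : Subgroup G) : Set G), n * t * n⁻¹ = i := by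
  haveI : Fact (Nat.Prime 2) := ⟨Nat.prime_two⟩
  obtain ⟨g, hg⟩ := h.conj_all (h.sqS hi) hi1
  obtain ⟨n, hn, e⟩ := CfsgLib.TransferApps.exists_normalizer_conj_of_abelian S h.isMulComm h.memS (g := g)
    (by rw [hg]; exact hi)
  exact ⟨n, hn, e.trans hg⟩

/-- The centralisers of all involutions are conjugate. -/
theorem Small.card_cent (h : Small t T S) {i : G} (hi : i * i = 1) (hi1 : i ≠ 1) :
    Nat.card (centralizer ({i} : Set G)) = Nat.card (centralizer ({t} : Set G)) := by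
  obtain ⟨g, hg⟩ := h.conj_all hi hi1
  have : centralizer ({i} : Set G) = (centralizer ({t} : Set G)).map (MulAut.conj g).toMonoidHom := by
    ext z
    rw [mem_centralizer_singleton_iff, mem_map]
    constructor
    · intro hz
      refine ⟨g⁻¹ * z * g, mem_centralizer_singleton_iff.mpr ?_, by
        show g * (g⁻¹ * z * g) * g⁻¹ = z
        group⟩
      calc g⁻¹ * z * g * t = g⁻¹ * (z * (g * t * g⁻¹)) * g := by group
        _ = g⁻¹ * (g * t * g⁻¹ * z) * g := by rw [hg, hz]
        _ = _ := by group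
    · rintro ⟨x, hx, rfl⟩
      rw [mem_centralizer_singleton_iff] at hx
      show g * x * g⁻¹ * i = i * (g * x * g⁻¹)
      rw [← hg, conj_mul, conj_mul, hx]
  rw [this, card_map_of_injective (MulAut.conj g).injective]

/-- A subgroup of odd order normalised by the Sylow subgroup is trivial. -/
theorem Small.odd_trivial (h : Small t T S) (L : Subgroup G) (hL : Odd (Nat.card L))
    (hn : (S : Subgroup G) ≤ normalizer (L : Set G)) : L = ⊥ := by
  haveI : Fact (Nat.Prime 2) := ⟨Nat.prime_two⟩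
  haveI := h.isMulComm
  have hcyc : ¬ IsCyclic (S : Subgroup G) := by
    intro hc
    obtain ⟨g, hg⟩ := hc.exists_ofOrder_eq_natCard
    have h1 : orderOf g ∣ 2 := orderOf_dvd_of_pow_eq_one (Subtype.ext (by
      push_cast
      rw [pow_two]
      exact h.sqS g.2))
    rw [hg, h.card_S] at h1
    norm_num at h1
  have hcop : (Nat.card (S : Subgroup G)).Coprime (Nat.card L) := by
    rw [h.card_S, show (8 : ℕ) = 2 ^ 3 from rfl]
    exact Nat.Coprime.pow_left 3 (Nat.coprime_two_left.mpr hL)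
  rw [← CfsgLib.coprime_generated_by_centralizers hcyc hn hcop, eq_bot_iff]
  refine iSup₂_le fun i hi => ?_
  obtain ⟨hiS, hi1⟩ := hi
  intro x0 hx0
  obtain ⟨hx0L, hx0C⟩ := mem_inf.mp hx0
  rw [mem_centralizer_singleton_iff] at hx0C
  rw [mem_bot]
  obtain ⟨n, hnS, hne⟩ := h.trans hiS hi1
  set x := n⁻¹ * x0 * n with hx
  have hxt : x * t = t * x := by
    calc x * t = n⁻¹ * (x0 * (n * t * n⁻¹)) * n := by rw [hx]; group
      _ = n⁻¹ * ((n * t * n⁻¹) * x0) * n := by rw [hne, hx0C]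
      _ = _ := by rw [hx]; group
  by_contra hx01
  have hx1 : x ≠ 1 := fun q => hx01 (by
    calc x0 = n * x * n⁻¹ := by rw [hx]; group
      _ = 1 := by rw [q]; group)
  -- the conjugate of `L` is again normalised by the Sylow subgroup
  set L' := L.map (MulAut.conj n⁻¹).toMonoidHom with hL'
  have hL'odd : Odd (Nat.card L') := by rwa [hL', card_map_of_injective (MulAut.conj n⁻¹).injective]
  have hxL' : x ∈ L' := ⟨x0, hx0L, by show n⁻¹ * x0 * n⁻¹⁻¹ = x; rw [hx, inv_inv]⟩
  have hconj : ∀ s ∈ (S : Subgroup G), ∀ y ∈ L', s * y * s⁻¹ ∈ L' := by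
    rintro s hs _ ⟨y, hy, rfl⟩
    have hs' : n * s * n⁻¹ ∈ (S : Subgroup G) := (mem_normalizer_iff.mp hnS s).mp hs
    refine ⟨(n * s * n⁻¹) * y * (n * s * n⁻¹)⁻¹, (mem_normalizer_iff.mp (hn hs') y).mp hy, ?_⟩
    show n⁻¹ * _ * n⁻¹⁻¹ = s * (n⁻¹ * y * n⁻¹⁻¹) * s⁻¹
    group
  have hodd : ∀ y ∈ L', y * t = t * y → ∃ hy : y ∈ T, (⟨y, hy⟩ : T) ^ 15 = 1 := by
    intro y hy hyt
    have ho := hL'odd.of_dvd_nat (L'.orderOf_dvd_natCard hy)
    have hyT : y ∈ T := by
      refine (h.split y (mem_centralizer_singleton_iff.mpr hyt)).resolve_right fun q => h.notMem ?_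
      have hp := pow_mem q (orderOf y)
      rw [(show Commute t y from hyt.symm).mul_pow, pow_orderOf_eq_one, mul_one] at hp
      obtain ⟨k, hk⟩ := ho
      rwa [hk, pow_succ, pow_mul, pow_two, h.sq, one_pow, one_mul] at hp
    refine ⟨hyT, orderOf_dvd_iff_pow_eq_one.mp ?_⟩
    have h60 : orderOf (⟨y, hyT⟩ : T) ∣ 4 * 15 := by
      rcases h.cardT with e | e
      · exact (orderOf_dvd_natCard (⟨y, hyT⟩ : T)).trans (by rw [e]; norm_num)
      · exact (orderOf_dvd_natCard (⟨y, hyT⟩ : T)).trans (by rw [e])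
    refine Nat.Coprime.dvd_of_dvd_mul_left ?_ h60
    rw [Subgroup.orderOf_mk, show (4 : ℕ) = 2 ^ 2 from rfl]
    exact Nat.Coprime.pow_right 2 (Nat.coprime_two_right.mpr ho)
  obtain ⟨v, w, hvS, hvT, hv1, hwS, hwT, hw1, hvw⟩ := h.exists_pair
  obtain ⟨hxT, hx15⟩ := hodd x hxL' hxt
  let L0 : Subgroup G := L' ⊓ centralizer ({t} : Set G)
  have hstab : ∀ s ∈ (S : Subgroup G), ∀ y ∈ L0, s * y * s ∈ L0 := by
    intro s hs y hy
    have hsi : s⁻¹ = s := inv_eq_of_mul_eq_one_right (h.sqS hs)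
    refine mem_inf.mpr ⟨?_, mul_mem (mul_mem (h.leS hs) (mem_inf.mp hy).2) (h.leS hs)⟩
    have := hconj s hs y (mem_inf.mp hy).1
    rwa [hsi] at this
  have hx0' : x ∈ L0 := mem_inf.mpr ⟨hxL', mem_centralizer_singleton_iff.mpr hxt⟩
  obtain ⟨z, hz, hne15⟩ := h.facts.word ⟨x, hxT⟩ ⟨v, hvT⟩ ⟨w, hwT⟩ hx15 (fun q => hx1 (congrArg Subtype.val q))
    (Subtype.ext (h.sqS hvS)) (fun q => hv1 (congrArg Subtype.val q)) (Subtype.ext (h.sqS hwS))
    (fun q => hw1 (congrArg Subtype.val q)) (fun q => hvw (congrArg Subtype.val q))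
    (Subtype.ext (h.commS hvS hwS))
  have hzL : (z : G) ∈ L0 := by
    have hp := hstab v hvS x hx0'
    have hq := hstab w hwS x hx0'
    have hr := hstab (v * w) (mul_mem hvS hwS) x hx0'
    simp only [words, List.mem_cons, List.not_mem_nil, or_false] at hz
    rcases hz with rfl | rfl | rfl | rfl | rfl | rfl <;> push_cast
    · exact mul_mem (mul_mem hx0' hx0') hp
    · exact mul_mem (mul_mem hx0' hx0') hq
    · exact mul_mem (mul_mem hx0' hx0') hr
    · exact mul_mem (mul_mem (mul_mem hx0' hp) hx0') hq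
    · exact mul_mem (mul_mem (mul_mem hx0' hp) hx0') hr
    · exact mul_mem (mul_mem (mul_mem hx0' hq) hx0') hr
  obtain ⟨_, hz15⟩ := hodd z (mem_inf.mp hzL).1 (mem_centralizer_singleton_iff.mp (mem_inf.mp hzL).2)
  exact hne15 hz15

end CfsgLib.InvTimesAlt
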