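/-
Centraliser of a 2-central involution of type two times alternating of degree four or five.
-/
import Cfsg.Agent.Lib.InvTimesAlt.Small
import Cfsg.Agent.Lib.InvTimesAlt.CA
import Cfsg.Agent.Lib.InvTimesAlt.Count
import Cfsg.Agent.S0205
import Cfsg.Agent.S0813
import Cfsg.Agent.S1644
import Cfsg.Agent.Lib.Elementary

set_option autoImplicit false
set_option linter.unusedSectionVars false
set_option maxHeartbeats 800000

namespace CfsgLib.InvTimesAlt

open Subgroup

universe u
variable {G : Type u} [Group G] [Finite G]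
variable {t : G} {T : Subgroup G} {S : Sylow 2 G}

/-- The involutions of the Sylow subgroup. -/
abbrev Pts (S : Sylow 2 G) : Type u := {x : G // x ∈ (S : Subgroup G) ∧ x ≠ 1}

theorem Small.card_pts (h : Small t T S) : Nat.card (Pts S) = 7 := by
  classical
  letI : Fintype (S : Subgroup G) := Fintype.ofFinite _
  have e : Pts S ≃ {x : (S : Subgroup G) // x ≠ 1} :=
    { toFun := fun x => ⟨⟨x.1, x.2.1⟩, fun q => x.2.2 (congrArg Subtype.val q)⟩
      invFun := fun x => ⟨x.1.1, x.1.2, fun q => x.2 (Subtype.ext q)⟩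
      left_inv := fun _ => rfl
      right_inv := fun _ => rfl }
  rw [Nat.card_congr e, Nat.card_eq_fintype_card, Fintype.card_subtype_compl, Fintype.card_subtype_eq,
    ← Nat.card_eq_fintype_card, h.card_S]

/-- The conjugation action on the involutions of the Sylow subgroup. -/
@[reducible] def ptsAction (S : Sylow 2 G) (M : Subgroup G) (hM : M ≤ normalizer ((S : Subgroup G) : Set G)) :
    MulAction M (Pts S) where
  smul m x := ⟨(m : G) * x.1 * (m : G)⁻¹, (mem_normalizer_iff.mp (hM m.2) x.1).mp x.2.1,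
    fun q => x.2.2 (conj_eq_one_iff.mp q)⟩
  one_smul x := Subtype.ext (by show ((1 : M) : G) * x.1 * _ = x.1; simp)
  mul_smul a b x := Subtype.ext (by
    show ((a * b : M) : G) * x.1 * ((a * b : M) : G)⁻¹ = (a : G) * ((b : G) * x.1 * (b : G)⁻¹) * (a : G)⁻¹
    push_cast; group)

/-- The order of the normaliser of the Sylow subgroup. -/
theorem Small.card_normalizer (h : Small t T S) :
    Nat.card (normalizer ((S : Subgroup G) : Set G)) =
      7 * Nat.card (normalizer ((S : Subgroup G) : Set G) ⊓ centralizer ({t} : Set G) : Subgroup G) := by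
  set M := normalizer ((S : Subgroup G) : Set G) with hM
  letI := ptsAction S M le_rfl
  let t' : Pts S := ⟨t, h.memS, h.ne⟩
  have horb : MulAction.orbit M t' = Set.univ := by
    ext x
    simp only [Set.mem_univ, iff_true]
    obtain ⟨n, hn, e⟩ := h.trans x.2.1 x.2.2
    exact ⟨⟨n, hn⟩, Subtype.ext e⟩
  have hst : MulAction.stabilizer M t' = (M ⊓ centralizer ({t} : Set G)).subgroupOf M := by
    ext m
    rw [MulAction.mem_stabilizer_iff, mem_subgroupOf, mem_inf, mem_centralizer_singleton_iff]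
    refine ⟨fun q => ⟨m.2, mul_inv_eq_iff_eq_mul.mp (congrArg Subtype.val q)⟩, fun q => Subtype.ext ?_⟩
    show (m : G) * t * (m : G)⁻¹ = t
    rw [q.2, mul_inv_cancel_right]
  have hi := MulAction.index_stabilizer M t'
  rw [horb, Set.ncard_univ, h.card_pts, hst] at hi
  have := card_mul_index ((M ⊓ centralizer ({t} : Set G)).subgroupOf M)
  rw [hi, Nat.card_congr (subgroupOfEquivOfLe inf_le_left).toEquiv] at this
  omega

theorem Small.isPGroup_zpowers (_h : Small t T S) {y : G} (hy : y * y = 1) : IsPGroup 2 (zpowers y) := by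
  rintro ⟨_, n, rfl⟩
  refine ⟨1, Subtype.ext ?_⟩
  show (y ^ n) ^ 2 ^ 1 = 1
  rw [pow_one, ← zpow_natCast (y ^ n), ← zpow_mul, mul_comm, zpow_mul, zpow_natCast, pow_two, hy, one_zpow]

theorem Small.S_ne_bot (h : Small t T S) : (S : Subgroup G) ≠ ⊥ := fun e => by
  have := h.card_S
  rw [e, card_bot] at this
  omega

/-- A nontrivial normal subgroup contains every involution. -/
theorem Small.normal_mem (h : Small t T S) (N : Subgroup G) [hN : N.Normal] (hN1 : N ≠ ⊥) {y : G} (hy : y * y = 1) :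
    y ∈ N := by
  haveI : Fact (Nat.Prime 2) := ⟨Nat.prime_two⟩
  by_cases hy1 : y = 1
  · subst hy1; exact one_mem _
  have heven : ¬ Odd (Nat.card N) := fun ho =>
    hN1 (h.odd_trivial N ho (fun s _ => by rw [normalizer_eq_top]; exact mem_top s))
  rw [Nat.not_odd_iff_even] at heven
  obtain ⟨⟨z, hzN⟩, hzo⟩ := exists_prime_orderOf_dvd_card' (G := N) 2 heven.two_dvd
  rw [orderOf_mk, involution_iff] at hzo
  obtain ⟨g, hg⟩ := h.conj_all hzo.1 hzo.2
  have htN : t ∈ N := by
    have := hN.conj_mem z hzN g⁻¹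
    rwa [← hg, show g⁻¹ * (g * t * g⁻¹) * g⁻¹⁻¹ = t by group] at this
  obtain ⟨k, hk⟩ := h.conj_all hy hy1
  rw [← hk]
  exact hN.conj_mem t htN k

/-- The structure of a minimal normal subgroup. -/
theorem Small.core (h : Small t T S) (hns : ¬ Group.IsSolvable G) :
    ∃ N : Subgroup G, N.Normal ∧ N ≠ ⊥ ∧ IsSimpleGroup N ∧ ¬ IsMulCommutative N ∧ (S : Subgroup G) ≤ N ∧
      (∀ g : G, ∃ n ∈ N, n⁻¹ * g ∈ centralizer ({t} : Set G)) := by
  classical
  haveI : Fact (Nat.Prime 2) := ⟨Nat.prime_two⟩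
  haveI : Nontrivial G := ⟨t, 1, h.ne⟩
  obtain ⟨N, hNn, -, hN0, hmin⟩ := CfsgLib.exists_minimal_normal (G := G) (N := (⊤ : Subgroup G)) top_ne_bot
  haveI := hNn
  have hinv : ∀ {y : G}, y * y = 1 → y ∈ N := fun hy => h.normal_mem N hN0 hy
  have hSN : (S : Subgroup G) ≤ N := fun x hx => hinv (h.sqS hx)
  set SN : Sylow 2 N := S.subtype hSN with hSNdef
  set M := normalizer ((S : Subgroup G) : Set G) with hMdef
  set M0 := N ⊓ M with hM0
  -- the group `N` is not a 2-group
  by_cases hfix : ∀ n ∈ M0, n * t = t * n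
  · exfalso
    have hcen : ∀ n ∈ M0, ∀ s ∈ (S : Subgroup G), n * s = s * n := by
      intro n hn s hs
      by_cases hs1 : s = 1
      · subst hs1; simp
      obtain ⟨k, hk, e⟩ := h.trans hs hs1
      have hn' : k⁻¹ * n * k ∈ M0 := by
        refine mem_inf.mpr ⟨?_, mul_mem (mul_mem (inv_mem hk) (mem_inf.mp hn).2) hk⟩
        have := hNn.conj_mem n (mem_inf.mp hn).1 k⁻¹
        rwa [inv_inv] at this
      have h1 := hfix _ hn'
      calc n * s = k * (k⁻¹ * n * k * t) * k⁻¹ := by rw [← e]; group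
        _ = k * (t * (k⁻¹ * n * k)) * k⁻¹ := by rw [h1]
        _ = s * n := by rw [← e]; group
    have hcomm : IsMulCommutative (SN : Subgroup N) :=
      ⟨⟨fun a b => Subtype.ext (Subtype.ext (h.commS a.2 b.2))⟩⟩
    obtain ⟨P, K, hK, hcompl⟩ := CfsgLib.Transfer.hasNormalPComplement_of_control SN fun x hx g hg => by
      obtain ⟨n, hn, e⟩ := CfsgLib.TransferApps.exists_normalizer_conj_of_abelian SN hcomm hx hg
      refine ⟨1, one_mem _, ?_⟩
      have hnM : (n : G) ∈ M0 := by
        refine mem_inf.mpr ⟨n.2, mem_normalizer_iff.mpr fun s => ?_⟩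
        constructor
        · intro hs
          exact (mem_normalizer_iff.mp hn ⟨s, hSN hs⟩).mp hs
        · intro hs
          have hsN : s ∈ N := by
            have := hNn.conj_mem _ (hSN hs) (n : G)⁻¹
            rwa [show (n : G)⁻¹ * ((n : G) * s * (n : G)⁻¹) * (n : G)⁻¹⁻¹ = s by group] at this
          exact (mem_normalizer_iff.mp hn ⟨s, hsN⟩).mpr hs
      have h1 := hcen n hnM x hx
      rw [one_mul, inv_one, mul_one, ← e]
      refine Subtype.ext ?_
      show (x : G) = (n : G) * (x : G) * (n : G)⁻¹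
      rw [h1, mul_inv_cancel_right]
    haveI := hK
    set K' := K.map N.subtype with hK'
    have hodd : Odd (Nat.card K') := by
      rw [hK', card_map_of_injective N.subtype_injective, ← Nat.not_even_iff_odd]
      intro he
      refine P.not_dvd_index ?_
      rw [hcompl.index_eq_card]
      exact he.two_dvd
    have hnorm : (S : Subgroup G) ≤ normalizer (K' : Set G) := by
      intro s hs
      refine mem_normalizer_fintype (S := (K' : Set G)) fun y hy => ?_
      obtain ⟨z, hz, rfl⟩ := hy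
      exact ⟨⟨s, hSN hs⟩ * z * (⟨s, hSN hs⟩ : N)⁻¹, hK.conj_mem z hz _, rfl⟩
    have hbot := h.odd_trivial K' hodd hnorm
    have hKbot : K = ⊥ := by
      rw [hK', ← Subgroup.map_bot N.subtype] at hbot
      exact map_injective N.subtype_injective hbot
    have hNS : (S : Subgroup G) = N := by
      refine eq_of_le_of_card_ge hSN (le_of_eq ?_)
      have hc := hcompl.card_mul
      rw [hKbot, card_bot, one_mul] at hc
      rw [← hc, Nat.card_congr (P.equiv SN).toEquiv]
      exact Nat.card_congr (subgroupOfEquivOfLe hSN).toEquiv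
    -- then the group is solvable
    refine hns ?_
    haveI hSn : (S : Subgroup G).Normal := hNS ▸ hNn
    have htop : M = ⊤ := normalizer_eq_top _
    have hcard := h.card_normalizer
    rw [← hMdef, htop, card_top, top_inf_eq, h.card_centralizer] at hcard
    haveI : Group.IsSolvable (G ⧸ (S : Subgroup G)) := Cfsg.Agent.S0205.result (by
      have hq := card_eq_card_quotient_mul_card_subgroup (S : Subgroup G)
      rw [h.card_S, hcard] at hq
      rw [Nat.odd_iff]
      rcases h.cardT with e | e <;> rw [e] at hq <;> omega)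
    haveI : Group.IsNilpotent (S : Subgroup G) := S.2.isNilpotent
    exact Group.isSolvable_of_ker_le_range (S : Subgroup G).subtype (QuotientGroup.mk' (S : Subgroup G))
      (by rw [QuotientGroup.ker_mk', Subgroup.range_subtype])
  push Not at hfix
  obtain ⟨n0, hn0, hn0t⟩ := hfix
  -- the normaliser in `N` is transitive
  letI := ptsAction S M0 inf_le_right
  letI : Fintype (Pts S) := Fintype.ofFinite _
  have htrans : ∀ x : Pts S, ∃ n ∈ M0, n * t * n⁻¹ = x.1 := by
    let t' : Pts S := ⟨t, h.memS, h.ne⟩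
    have hmove : ∀ (k : G), k ∈ M → ∀ a b : Pts S, a.1 = k * t * k⁻¹ →
        (b ∈ MulAction.orbit M0 a ↔ ∃ c : Pts S, c ∈ MulAction.orbit M0 t' ∧ b.1 = k * c.1 * k⁻¹) := by
      intro k hk a b ha
      constructor
      · rintro ⟨⟨n, hn⟩, rfl⟩
        have hn' : k⁻¹ * n * k ∈ M0 := by
          refine mem_inf.mpr ⟨?_, mul_mem (mul_mem (inv_mem hk) (mem_inf.mp hn).2) hk⟩
          have := hNn.conj_mem n (mem_inf.mp hn).1 k⁻¹
          rwa [inv_inv] at this
        refine ⟨(⟨_, hn'⟩ : M0) • t', ⟨_, rfl⟩, ?_⟩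
        show n * a.1 * n⁻¹ = k * (k⁻¹ * n * k * t * (k⁻¹ * n * k)⁻¹) * k⁻¹
        rw [ha]; group
      · rintro ⟨c, ⟨⟨n, hn⟩, rfl⟩, hb⟩
        have hn' : k * n * k⁻¹ ∈ M0 :=
          mem_inf.mpr ⟨hNn.conj_mem n (mem_inf.mp hn).1 k, mul_mem (mul_mem hk (mem_inf.mp hn).2) (inv_mem hk)⟩
        refine ⟨⟨_, hn'⟩, Subtype.ext ?_⟩
        show k * n * k⁻¹ * a.1 * (k * n * k⁻¹)⁻¹ = b.1
        rw [hb, ha]
        show _ = k * (n * t * n⁻¹) * k⁻¹
        group
    have hsame : ∀ a : Pts S, Nat.card (MulAction.orbit M0 a) = Nat.card (MulAction.orbit M0 t') := by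
      intro a
      obtain ⟨k, hk, e⟩ := h.trans a.2.1 a.2.2
      let f : MulAction.orbit M0 t' → MulAction.orbit M0 a := fun c =>
        ⟨⟨k * c.1.1 * k⁻¹, (mem_normalizer_iff.mp hk c.1.1).mp c.1.2.1, fun q => c.1.2.2 (conj_eq_one_iff.mp q)⟩,
          (hmove k hk a _ e.symm).mpr ⟨c.1, c.2, rfl⟩⟩
      refine (Nat.card_eq_of_bijective f ⟨fun p q hpq => ?_, fun b => ?_⟩).symm
      · have := congrArg (fun z : MulAction.orbit M0 a => z.1.1) hpq
        exact Subtype.ext (Subtype.ext (mul_left_cancel (mul_right_cancel this)))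
      · obtain ⟨c, hc, hb⟩ := (hmove k hk a b.1 e.symm).mp b.2
        exact ⟨⟨c, hc⟩, Subtype.ext (Subtype.ext hb.symm)⟩
    have hsum : Nat.card (Pts S) =
        Nat.card (MulAction.orbitRel.Quotient M0 (Pts S)) * Nat.card (MulAction.orbit M0 t') := by
      haveI := Fintype.ofFinite (MulAction.orbitRel.Quotient M0 (Pts S))
      rw [Nat.card_congr (MulAction.selfEquivSigmaOrbits M0 (Pts S)), Nat.card_sigma,
        Finset.sum_congr rfl (fun q _ => hsame q.out), Finset.sum_const, Finset.card_univ, smul_eq_mul,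
        ← Nat.card_eq_fintype_card]
    rw [h.card_pts] at hsum
    have h1 : 1 < Nat.card (MulAction.orbit M0 t') := by
      rw [Finite.one_lt_card_iff_nontrivial]
      refine ⟨⟨t', MulAction.mem_orbit_self _⟩, ⟨(⟨n0, hn0⟩ : M0) • t', MulAction.mem_orbit _ _⟩, fun q => hn0t ?_⟩
      exact mul_inv_eq_iff_eq_mul.mp (congrArg (fun z : MulAction.orbit M0 t' => z.1.1) q).symm
    have h7 : Nat.card (MulAction.orbit M0 t') = 7 := by
      rcases (Nat.dvd_prime (by norm_num)).mp (Dvd.intro_left _ hsum.symm) with q | q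
      · omega
      · exact q
    intro x
    have huniv : MulAction.orbit M0 t' = Set.univ := by
      refine Set.eq_univ_of_forall fun z => ?_
      by_contra hz
      have := Set.ncard_lt_ncard (s := MulAction.orbit M0 t') (t := Set.univ)
        (Set.ssubset_univ_iff.mpr (fun q => hz (by rw [q]; exact Set.mem_univ z))) Set.finite_univ
      rw [Set.ncard_univ, ← Nat.card_coe_set_eq, h7, h.card_pts] at this
      exact lt_irrefl _ this
    obtain ⟨⟨n, hn⟩, e⟩ : x ∈ MulAction.orbit M0 t' := huniv ▸ Set.mem_univ x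
    exact ⟨n, hn, congrArg Subtype.val e⟩
  -- every involution is conjugate to `t` inside `N`
  have hconjN : ∀ {y : G}, y * y = 1 → y ≠ 1 → ∃ n ∈ N, n * t * n⁻¹ = y := by
    intro y hy hy1
    obtain ⟨Q, hQ⟩ := ((h.isPGroup_zpowers hy).of_equiv
      (subgroupOfEquivOfLe (zpowers_le.mpr (hinv hy))).symm).exists_le_sylow
    obtain ⟨a, ha⟩ := MulAction.exists_smul_eq N Q SN
    have hyS : (a : G) * y * (a : G)⁻¹ ∈ (S : Subgroup G) := by
      have hm : a * ⟨y, hinv hy⟩ * a⁻¹ ∈ (SN : Subgroup N) := by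
        rw [← ha, Sylow.coe_subgroup_smul]
        exact ⟨⟨y, hinv hy⟩, hQ (mem_subgroupOf.mpr (mem_zpowers y)), rfl⟩
      exact hm
    obtain ⟨n, hn, e⟩ := htrans ⟨_, hyS, fun q => hy1 (conj_eq_one_iff.mp q)⟩
    refine ⟨(a : G)⁻¹ * n, mul_mem (inv_mem a.2) (mem_inf.mp hn).1, ?_⟩
    calc (a : G)⁻¹ * n * t * ((a : G)⁻¹ * n)⁻¹ = (a : G)⁻¹ * (n * t * n⁻¹) * a := by group
      _ = y := by rw [e]; group
  haveI : Nontrivial N := (nontrivial_iff_ne_bot N).mpr hN0
  have hsimple : IsSimpleGroup N := by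
    refine ⟨fun M1 hM1n => ?_⟩
    by_cases hb : M1 = ⊥
    · exact Or.inl hb
    refine Or.inr ?_
    set M1' := M1.map N.subtype with hM1'
    have hM1b : M1' ≠ ⊥ := fun q => hb (map_injective N.subtype_injective (q.trans (Subgroup.map_bot N.subtype).symm))
    have heven : ¬ Odd (Nat.card M1') := fun ho => hM1b (h.odd_trivial M1' ho (fun s hs => by
      refine mem_normalizer_fintype (S := (M1' : Set G)) fun y hy => ?_
      obtain ⟨z, hz, rfl⟩ := hy
      exact ⟨⟨s, hSN hs⟩ * z * (⟨s, hSN hs⟩ : N)⁻¹, hM1n.conj_mem z hz _, rfl⟩))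
    rw [Nat.not_odd_iff_even] at heven
    obtain ⟨⟨z, hzM⟩, hzo⟩ := exists_prime_orderOf_dvd_card' (G := M1') 2 heven.two_dvd
    rw [orderOf_mk, involution_iff] at hzo
    obtain ⟨z', hz', rfl⟩ := hzM
    obtain ⟨n, hn, e⟩ := hconjN hzo.1 hzo.2
    have htM : (⟨t, hSN h.memS⟩ : N) ∈ M1 := by
      have := hM1n.conj_mem z' hz' (⟨n, hn⟩ : N)⁻¹
      convert this using 1
      refine Subtype.ext ?_
      show t = n⁻¹ * (z' : G) * n⁻¹⁻¹
      rw [show (z' : G) = n * t * n⁻¹ from e.symm]
      group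
    have hclo : normalClosure ({t} : Set G) ≤ M1' := by
      rw [normalClosure, closure_le]
      intro y hy
      rw [Group.mem_conjugatesOfSet_iff] at hy
      obtain ⟨a, ha, hay⟩ := hy
      rw [Set.mem_singleton_iff] at ha
      rw [ha] at hay
      obtain ⟨g, rfl⟩ := isConj_iff.mp hay
      obtain ⟨k, hk, e'⟩ := hconjN (y := g * t * g⁻¹) (by rw [conj_mul, h.sq]; group)
        (fun q => h.ne (conj_eq_one_iff.mp q))
      rw [← e']
      exact ⟨(⟨k, hk⟩ : N) * ⟨t, hSN h.memS⟩ * (⟨k, hk⟩ : N)⁻¹, hM1n.conj_mem _ htM _, rfl⟩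
    have heq : normalClosure ({t} : Set G) = N := by
      refine ((hmin _ inferInstance (hclo.trans (map_subtype_le M1))).resolve_left fun q => h.ne ?_)
      exact (eq_bot_iff_forall _).mp q t (subset_normalClosure rfl)
    rw [eq_top_iff]
    intro x _
    obtain ⟨x', hx', e'⟩ := hclo (heq.symm ▸ x.2 : (x : G) ∈ normalClosure ({t} : Set G))
    rwa [← Subtype.ext (e' : (x' : G) = x)]
  refine ⟨N, hNn, hN0, hsimple, fun hc => ?_, hSN, fun g => ?_⟩
  · -- a commutative `N` normalises nothing new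
    obtain ⟨-, hn0N, -⟩ : True ∧ n0 ∈ N ∧ True := ⟨trivial, (mem_inf.mp hn0).1, trivial⟩
    exact hn0t (congrArg Subtype.val (hc.1.comm ⟨n0, hn0N⟩ ⟨t, hSN h.memS⟩))
  · obtain ⟨n, hn, e⟩ := hconjN (y := g * t * g⁻¹) (by rw [conj_mul, h.sq]; group)
      (fun q => h.ne (conj_eq_one_iff.mp q))
    refine ⟨n, hn, mem_centralizer_singleton_iff.mpr ?_⟩
    calc n⁻¹ * g * t = n⁻¹ * (g * t * g⁻¹) * g := by group
      _ = n⁻¹ * (n * t * n⁻¹) * g := by rw [e]
      _ = _ := by group

/-- If the minimal normal subgroup contains the centraliser, it is everything. -/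
theorem eq_top_of_factor {N : Subgroup G} {C : Subgroup G} (hC : C ≤ N) (hf : ∀ g : G, ∃ n ∈ N, n⁻¹ * g ∈ C) :
    N = ⊤ := by
  rw [eq_top_iff]
  intro g _
  obtain ⟨n, hn, hc⟩ := hf g
  simpa using mul_mem hn (hC hc)

/-- Degree five. -/
theorem Small.five (h : Small t T S) (hns : ¬ Group.IsSolvable G) (e : T ≃* alternatingGroup (Fin 5)) :
    Cfsg.Spor.IsoJ1 G := by
  obtain ⟨N, hNn, -, hNs, -, hSN, hf⟩ := h.core hns
  haveI := hNn
  haveI : IsSimpleGroup T :=
    (MulEquiv.isSimpleGroup_congr e).mpr alternatingGroup.isSimpleGroup_five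
  have hTN : T ≤ N := by
    rcases (inferInstance : (N.subgroupOf T).Normal).eq_bot_or_eq_top with q | q
    · exfalso
      obtain ⟨v, w, hvS, hvT, hv1, -⟩ := h.exists_pair
      exact hv1 (congrArg Subtype.val ((eq_bot_iff_forall _).mp q ⟨v, hvT⟩ (mem_subgroupOf.mpr (hSN hvS))))
    · exact subgroupOf_eq_top.mp q
  have hCN : centralizer ({t} : Set G) ≤ N := fun c hc => by
    rcases h.split c hc with hT | hT
    · exact hTN hT
    · simpa using mul_mem (inv_mem (hSN h.memS)) (hTN hT)
  have htop := eq_top_of_factor hCN hf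
  haveI : IsSimpleGroup G := by
    subst htop
    exact (MulEquiv.isSimpleGroup_congr topEquiv).mp hNs
  let φ : Multiplicative (ZMod 2) × alternatingGroup (Fin 5) → centralizer ({t} : Set G) := fun p =>
    ⟨(if p.1 = 1 then 1 else t) * (e.symm p.2 : G), mul_mem (by split_ifs; exacts [one_mem _, h.self_mem])
      (h.le (e.symm p.2).2)⟩
  have hz : ∀ a : Multiplicative (ZMod 2), a = 1 ∨ a = Multiplicative.ofAdd 1 := by decide
  have hzne : (Multiplicative.ofAdd (1 : ZMod 2)) ≠ 1 := by decide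
  have hz2 : (Multiplicative.ofAdd (1 : ZMod 2)) * Multiplicative.ofAdd 1 = 1 := by decide
  have hmul : ∀ p q, φ (p * q) = φ p * φ q := by
    rintro ⟨a, x⟩ ⟨b, y⟩
    refine Subtype.ext ?_
    show (if a * b = 1 then 1 else t) * (e.symm (x * y) : G) =
      (if a = 1 then 1 else t) * (e.symm x : G) * ((if b = 1 then 1 else t) * (e.symm y : G))
    rw [map_mul, Subgroup.coe_mul]
    rcases hz a with rfl | rfl <;> rcases hz b with rfl | rfl
    · simp
    · simp only [one_mul, if_true, if_neg hzne]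
      rw [← mul_assoc, ← mul_assoc (e.symm x : G), h.comm _ (e.symm x).2]
    · simp [hzne, mul_assoc]
    · simp only [hz2, if_true, if_neg hzne, one_mul]
      rw [show t * (e.symm x : G) * (t * (e.symm y : G)) = t * ((e.symm x : G) * t) * (e.symm y : G) by group,
        ← h.comm _ (e.symm x).2, ← mul_assoc t t, h.sq, one_mul]
  have hinj : Function.Injective φ := by
    rintro ⟨a, x⟩ ⟨b, y⟩ q
    have q' : (if a = 1 then 1 else t) * (e.symm x : G) = (if b = 1 then 1 else t) * (e.symm y : G) :=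
      congrArg Subtype.val q
    rcases hz a with rfl | rfl <;> rcases hz b with rfl | rfl <;>
      simp only [if_true, if_neg hzne, one_mul] at q'
    · exact Prod.ext rfl (e.symm.injective (Subtype.ext q'))
    · exact absurd (by rw [show t = (e.symm x : G) * (e.symm y : G)⁻¹ by rw [q']; group]
                       exact mul_mem (e.symm x).2 (inv_mem (e.symm y).2)) h.notMem
    · exact absurd (by rw [show t = (e.symm y : G) * (e.symm x : G)⁻¹ by rw [← q']; group]
                       exact mul_mem (e.symm y).2 (inv_mem (e.symm x).2)) h.notMem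
    · exact Prod.ext rfl (e.symm.injective (Subtype.ext (mul_left_cancel q')))
  have hbij : Function.Bijective φ := by
    rw [Nat.bijective_iff_injective_and_card]
    refine ⟨hinj, ?_⟩
    rw [h.card_centralizer, Nat.card_prod, Nat.card_congr e.toEquiv, Nat.card_eq_fintype_card,
      Fintype.card_multiplicative, ZMod.card]
  exact Cfsg.Agent.S1644.result S h.isMulComm h.card_S t h.two
    (MulEquiv.ofBijective (MonoidHom.mk' φ hmul) hbij).symm

/-- Degree four. -/
theorem Small.four (h : Small t T S) (hns : ¬ Group.IsSolvable G) (hT : Nat.card T = 12)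
    (hcomm : ∀ a b : T, a * a = 1 → b * b = 1 → a * b = b * a) :
    ∃ (F : Type) (_ : Field F) (_ : Fintype F), Fintype.card F = 8 ∧
      Nonempty (G ≃* MulAut (Matrix.ProjectiveSpecialLinearGroup (Fin 2) F)) := by
  classical
  haveI : Fact (Nat.Prime 2) := ⟨Nat.prime_two⟩
  obtain ⟨N, hNn, hN0, hNs, hNc, hSN, hf⟩ := h.core hns
  haveI := hNn
  haveI := hNs
  set C := centralizer ({t} : Set G) with hC
  have hCcard : Nat.card C = 24 := by rw [hC, h.card_centralizer, hT]
  -- every involution of the centraliser lies in the Sylow subgroup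
  have hmemS : ∀ x ∈ C, x * x = 1 → x ∈ (S : Subgroup G) := by
    intro x hx hxx
    refine h.mem_S hxx fun s hs => ?_
    have key : ∀ y ∈ C, y * y = 1 → ∃ τ ∈ T, τ * τ = 1 ∧ (y = τ ∨ y = t * τ) := by
      intro y hy hyy
      rcases h.split y hy with hT' | hT'
      · exact ⟨y, hT', hyy, Or.inl rfl⟩
      · have hc : t * y = y * t := (mem_centralizer_singleton_iff.mp hy).symm
        refine ⟨t * y, hT', ?_, Or.inr (by rw [← mul_assoc, h.sq, one_mul])⟩
        nth_rewrite 2 [hc]
        rw [mul_assoc, ← mul_assoc y, hyy, one_mul, h.sq]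
    obtain ⟨α, hα, hαα, ea⟩ := key s (h.leS hs) (h.sqS hs)
    obtain ⟨β, hβ, hββ, eb⟩ := key x hx hxx
    have hc : Commute α β := congrArg Subtype.val (hcomm ⟨α, hα⟩ ⟨β, hβ⟩ (Subtype.ext hαα) (Subtype.ext hββ))
    have htα : Commute t α := h.comm α hα
    have htβ : Commute t β := h.comm β hβ
    rcases ea with rfl | rfl <;> rcases eb with rfl | rfl
    · exact hc
    · exact htα.symm.mul_right hc
    · exact htβ.mul_left hc
    · exact ((Commute.refl t).mul_right htβ).mul_left (htα.symm.mul_right hc)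
  have hCS : ∀ c ∈ C, ∀ s ∈ (S : Subgroup G), c * s * c⁻¹ ∈ (S : Subgroup G) := fun c hc s hs =>
    hmemS _ (mul_mem (mul_mem hc (h.leS hs)) (inv_mem hc)) (by rw [conj_mul, h.sqS hs]; group)
  have hCM : C ≤ normalizer ((S : Subgroup G) : Set G) := fun c hc =>
    mem_normalizer_fintype (S := ((S : Subgroup G) : Set G)) fun s hs => hCS c hc s hs
  have h8 : 8 ∣ Nat.card (N ⊓ C : Subgroup G) := h.card_S ▸ card_dvd_of_le (le_inf hSN h.leS)
  have h24 : Nat.card (N ⊓ C : Subgroup G) ∣ 24 := hCcard ▸ card_dvd_of_le inf_le_right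
  have hcases : Nat.card (N ⊓ C : Subgroup G) = 24 ∨ Nat.card (N ⊓ C : Subgroup G) = 8 := by
    obtain ⟨j, hj⟩ := h8
    rw [hj] at h24 ⊢
    have hj3 : j ∣ 3 := Nat.dvd_of_mul_dvd_mul_left (by norm_num : 0 < 8) h24
    rcases (Nat.dvd_prime Nat.prime_three).mp hj3 with rfl | rfl
    · right; rfl
    · left; rfl
  rcases hcases with e24 | e8
  · exfalso
    have hCN : C ≤ N := by
      have := eq_of_le_of_card_ge (inf_le_right : N ⊓ C ≤ C) (by rw [e24, hCcard])
      rw [← this]
      exact inf_le_left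
    have htop := eq_top_of_factor hCN hf
    subst htop
    haveI : IsSimpleGroup G := (MulEquiv.isSimpleGroup_congr topEquiv).mp hNs
    have hG : ¬ IsMulCommutative G := fun q => hNc ⟨⟨fun a b => Subtype.ext (q.1.comm a.1 b.1)⟩⟩
    refine Local.false (M := normalizer ((S : Subgroup G) : Set G)) (E := (S : Subgroup G)) ?_ hG
    refine ⟨?_, le_normalizer, h.card_S, fun x hx hxx => ?_, fun x hx => h.sqS hx,
      fun m hm e he => (mem_normalizer_iff.mp hm e).mp he, fun i hi j hj hi1 hj1 => ?_,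
      fun i hi hi1 => by rw [h.card_cent hi hi1, ← hC, hCcard], fun i hi hi1 => ?_,
      fun i j hi hi1 hj hj1 => ?_⟩
    · rw [h.card_normalizer, ← hC, inf_eq_right.mpr hCM, hCcard]
    · have := S.3 (S.2.to_sup_of_normal_left' (h.isPGroup_zpowers hxx) (zpowers_le.mpr hx)) le_sup_left
      rw [← this]
      exact le_sup_right (a := (S : Subgroup G)) (mem_zpowers x)
    · obtain ⟨a, ha, ea⟩ := h.trans hi hi1
      obtain ⟨b, hb, eb⟩ := h.trans hj hj1
      refine ⟨b * a⁻¹, mul_mem hb (inv_mem ha), ?_⟩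
      rw [← ea, ← eb]; group
    · obtain ⟨a, ha, ea⟩ := h.trans hi hi1
      intro c hc
      rw [mem_centralizer_singleton_iff] at hc
      have hc' : a⁻¹ * c * a ∈ C := mem_centralizer_singleton_iff.mpr (by
        calc a⁻¹ * c * a * t = a⁻¹ * (c * (a * t * a⁻¹)) * a := by group
          _ = a⁻¹ * (a * t * a⁻¹ * c) * a := by rw [ea, hc]
          _ = _ := by group)
      have := mul_mem (mul_mem ha (hCM hc')) (inv_mem ha)
      rwa [show a * (a⁻¹ * c * a) * a⁻¹ = c by group] at this
    · obtain ⟨a, ea⟩ := h.conj_all hi hi1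
      obtain ⟨b, eb⟩ := h.conj_all hj hj1
      refine ⟨b * a⁻¹, ?_⟩
      rw [← ea, ← eb]; group
  · have hNC : N ⊓ C = (S : Subgroup G) :=
      (eq_of_le_of_card_ge (le_inf hSN h.leS) (by rw [e8, h.card_S])).symm
    set SN : Sylow 2 N := S.subtype hSN with hSNdef
    have hcardSN : Nat.card (SN : Subgroup N) = 8 := by
      rw [← h.card_S]
      exact Nat.card_congr (subgroupOfEquivOfLe hSN).toEquiv
    have hhyp : CAGroup.Hyp SN := by
      refine ⟨fun hc => ?_, fun hn => ?_, fun z hz => ?_⟩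
      · obtain ⟨g, hg⟩ := hc.exists_ofOrder_eq_natCard
        have h1 : orderOf g ∣ 2 := orderOf_dvd_of_pow_eq_one (Subtype.ext (Subtype.ext (by
          push_cast
          rw [pow_two]
          exact h.sqS g.2)))
        rw [hg, hcardSN] at h1
        norm_num at h1
      · rcases hn.eq_bot_or_eq_top with q | q
        · rw [q, card_bot] at hcardSN; omega
        · refine hNc ⟨⟨fun a b => Subtype.ext (h.commS ?_ ?_)⟩⟩
          · exact (q.symm ▸ mem_top a : a ∈ (SN : Subgroup N))
          · exact (q.symm ▸ mem_top b : b ∈ (SN : Subgroup N))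
      · obtain ⟨zz, zh⟩ := involution_iff.mp hz
        have zz' : (z : G) * z = 1 := congrArg Subtype.val zz
        have zh' : (z : G) ≠ 1 := fun q => zh (Subtype.ext q)
        obtain ⟨g, hg⟩ := h.conj_all zz' zh'
        have key : ∀ c ∈ centralizer ({z} : Set N), g⁻¹ * (c : G) * g ∈ (S : Subgroup G) := by
          intro c hc
          rw [mem_centralizer_singleton_iff] at hc
          have hc' : (c : G) * z = z * c := congrArg Subtype.val hc
          rw [← hNC]
          refine mem_inf.mpr ⟨?_, mem_centralizer_singleton_iff.mpr ?_⟩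
          · have := hNn.conj_mem _ c.2 g⁻¹
            rwa [inv_inv] at this
          · calc g⁻¹ * (c : G) * g * t = g⁻¹ * ((c : G) * (g * t * g⁻¹)) * g := by group
              _ = g⁻¹ * ((g * t * g⁻¹) * c) * g := by rw [hg, hc']
              _ = _ := by group
        refine ⟨⟨⟨fun a b => Subtype.ext (Subtype.ext ?_)⟩⟩, fun c hc => Subtype.ext ?_⟩
        · have q := h.commS (key _ a.2) (key _ b.2)
          show (a.1 : G) * b.1 = b.1 * a.1
          calc (a.1 : G) * b.1 = g * ((g⁻¹ * a.1 * g) * (g⁻¹ * b.1 * g)) * g⁻¹ := by group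
            _ = _ := by rw [q]; group
        · have q := h.sqS (key _ hc)
          show ((c ^ 2 : N) : G) = 1
          rw [SubgroupClass.coe_pow, pow_two]
          calc (c : G) * c = g * ((g⁻¹ * c * g) * (g⁻¹ * c * g)) * g⁻¹ := by group
            _ = 1 := by rw [q]; group
    obtain ⟨F, iF, iFt, hF, ⟨ψ⟩⟩ := psl_of_hyp hhyp
    rw [hcardSN] at hF
    refine ⟨F, iF, iFt, hF, ?_⟩
    have hNcard : Nat.card N = 504 := by
      have h1 := CfsgLib.SLCard.gcd_mul_card_PSL (F := F) (n := 2) (by norm_num)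
      rw [CfsgLib.SLCard.card_SL_two, hF] at h1
      rw [Nat.card_congr ψ.toEquiv]
      rw [show Nat.gcd 2 (8 - 1) = 1 from by decide, one_mul] at h1
      rw [h1]
      norm_num
    have hidx : N.index = 3 := by
      have htop : N ⊔ C = ⊤ := by
        rw [eq_top_iff]
        intro g _
        obtain ⟨n, hn, hc⟩ := hf g
        simpa using mul_mem (mem_sup_left (T := C) hn) (mem_sup_right (S := N) hc)
      have h1 : N.relIndex C = N.index := by
        rw [← relIndex_top_right N, ← htop, sup_comm, relIndex_sup_right]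
      have h2 := card_mul_index ((N ⊓ C).subgroupOf C)
      rw [Nat.card_congr (subgroupOfEquivOfLe inf_le_right).toEquiv, e8, hCcard] at h2
      rw [← h1, ← inf_relIndex_right, Subgroup.relIndex]
      omega
    have hG : Nat.card G = 1512 := by rw [← card_mul_index N, hNcard, hidx]
    have hcenN : centralizer (N : Set G) = ⊥ := by
      haveI : (centralizer (N : Set G)).Normal := inferInstance
      by_contra hne
      have ht := h.normal_mem (centralizer (N : Set G)) hne h.sq
      refine hNc ?_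
      -- then `N` would lie in the centraliser of `t`
      have hle : N ≤ N ⊓ C := fun n hn =>
        mem_inf.mpr ⟨hn, mem_centralizer_singleton_iff.mpr (mem_centralizer_iff.mp ht n hn)⟩
      exact ⟨⟨fun a b => Subtype.ext (h.commS (hNC ▸ hle a.2) (hNC ▸ hle b.2))⟩⟩
    let θ : G →* MulAut N := MulAut.conjNormal
    have hθ : Function.Injective θ := by
      rw [← MonoidHom.ker_eq_bot_iff, eq_bot_iff]
      intro g hg
      rw [← hcenN, mem_centralizer_iff]
      intro n hn
      have q := congrArg (fun a : MulAut N => ((a ⟨n, hn⟩ : N) : G)) (MonoidHom.mem_ker.mp hg)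
      simp only [θ, MulAut.conjNormal_apply, MulAut.one_apply] at q
      exact (mul_inv_eq_iff_eq_mul.mp q).symm
    haveI : Fact (Nat.Prime 2) := ⟨Nat.prime_two⟩
    have haut := Cfsg.Agent.S0813.result (F := F) 2 3 (by norm_num) (by rw [hF]; norm_num) 2 le_rfl (fun _ => by norm_num)
    rw [if_pos rfl, Cfsg.Agent.S0265.result 2, CfsgLib.SLCard.card_SL_two, hF] at haut
    haveI : Finite (MulAut N) := inferInstance
    have hcongr := Nat.card_congr (MulAut.congr ψ).toEquiv
    rw [haut] at hcongr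
    have hbij : Function.Bijective θ := (Nat.bijective_iff_injective_and_card θ).mpr ⟨hθ, by rw [hG, hcongr]; norm_num⟩
    exact ⟨(MulEquiv.ofBijective θ hbij).trans (MulAut.congr ψ)⟩

end CfsgLib.InvTimesAlt
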